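import Mathlib

/-!
# Gluing along a finite family of generators of an ideal of depth two or three

`Sat I M x`: `x ∈ I` is regular on `M` and `M/xM` has no element killed by a power of `I`.
-/

set_option autoImplicit false

universe u

namespace Groth.Agent.H18Pur.Formal

variable {A : Type u} [CommRing A] (I : Ideal A)

/-- `x ∈ I` is regular on `M` and saturated for `I`. -/
structure Sat (M : Type u) [AddCommGroup M] [Module A M] (x : A) : Prop where
  mem : x ∈ I
  reg : IsSMulRegular M x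
  sat : ∀ (K : ℕ) (z : M), (∀ y ∈ I ^ K, ∃ w, y • z = x • w) → ∃ w, z = x • w

variable {I} {M : Type u} [AddCommGroup M] [Module A M]

/-- Saturation from a regular sequence `x, y` in `I`. -/
theorem sat_of_pair {x y : A} (hx : x ∈ I) (hy : y ∈ I) (hreg : IsSMulRegular M x)
    (h : ∀ z w : M, y • z = x • w → ∃ w', z = x • w') : Sat I M x where
  mem := hx
  reg := hreg
  sat K z hz := by
    obtain ⟨w, hw⟩ := hz (y ^ K) (Ideal.pow_mem_pow hy K)
    clear hz
    induction K generalizing z w with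
    | zero => exact ⟨w, by simpa using hw⟩
    | succ K ih =>
      rw [pow_succ, mul_smul] at hw
      obtain ⟨w', hw'⟩ := ih (y • z) w hw
      exact h z w' hw'

/-- Saturation from saturation for the first power. -/
theorem sat_of_sat_one {x : A} (hx : x ∈ I) (hreg : IsSMulRegular M x)
    (h : ∀ z : M, (∀ y ∈ I, ∃ w, y • z = x • w) → ∃ w, z = x • w) : Sat I M x where
  mem := hx
  reg := hreg
  sat K := by
    induction K with
    | zero =>
      intro z hz
      obtain ⟨w, hw⟩ := hz 1 (by simp)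
      exact ⟨w, by simpa using hw⟩
    | succ K ih =>
      intro z hz
      refine h z fun y hy => ih (y • z) fun y' hy' => ?_
      rw [smul_smul]
      exact hz (y' * y) (pow_succ I K ▸ Ideal.mul_mem_mul hy' hy)

variable {x : A}

theorem Sat.sat_pow (hM : Sat I M x) (j K : ℕ) (z : M) (hz : ∀ y ∈ I ^ K, ∃ w, y • z = x ^ j • w) :
    ∃ w, z = x ^ j • w := by
  induction j generalizing z with
  | zero => exact ⟨z, by simp⟩
  | succ j ih =>
    obtain ⟨z', rfl⟩ := hM.sat K z fun y hy => by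
      obtain ⟨w, hw⟩ := hz y hy
      exact ⟨x ^ j • w, by rw [hw, smul_smul, ← pow_succ']⟩
    obtain ⟨w, rfl⟩ := ih z' fun y hy => by
      obtain ⟨w, hw⟩ := hz y hy
      exact ⟨w, hM.reg (show x • (y • z') = x • (x ^ j • w) by rw [smul_comm, hw, smul_smul, ← pow_succ'])⟩
    exact ⟨w, by rw [smul_smul, ← pow_succ']⟩

variable {T : Finset A} (hT : Ideal.span (T : Set A) = I)

include hT in
theorem mem_of_mem {c : A} (hc : c ∈ T) : c ∈ I := hT ▸ Ideal.subset_span hc

include hT in
/-- Powers of `I` lie in the ideal of fixed powers of the generators. -/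
theorem exists_pow_le (K : ℕ) : ∃ R, I ^ R ≤ Ideal.span ((fun c => c ^ K) '' (T : Set A)) := by
  refine Ideal.exists_pow_le_of_le_radical_of_fg ?_ ⟨T, hT⟩
  rw [← hT, Ideal.span_le]
  exact fun c hc => ⟨K, Ideal.subset_span ⟨c, hc, rfl⟩⟩

include hT in
/-- A sum expressing a power of `x`. -/
theorem exists_sum (hx : x ∈ I) (K : ℕ) : ∃ (R : ℕ) (r : A → A), ∑ c ∈ T, r c * c ^ K = x ^ R := by
  classical
  obtain ⟨R, hR⟩ := exists_pow_le hT K
  refine ⟨R, ?_⟩
  have h := hR (Ideal.pow_mem_pow hx R)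
  generalize x ^ R = a at h
  induction h using Submodule.span_induction with
  | mem a ha =>
    obtain ⟨c, hc, rfl⟩ := ha
    exact ⟨fun e => if e = c then 1 else 0, by simp [ite_mul, Finset.sum_ite_eq', Finset.mem_coe.1 hc]⟩
  | zero => exact ⟨0, by simp⟩
  | add a b _ _ ha hb =>
    obtain ⟨r, rfl⟩ := ha
    obtain ⟨s, rfl⟩ := hb
    exact ⟨r + s, by simp [add_mul, Finset.sum_add_distrib]⟩
  | smul t a _ ha =>
    obtain ⟨r, rfl⟩ := ha
    exact ⟨fun e => t * r e, by simp [Finset.mul_sum, mul_assoc]⟩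

include hT in
/-- An element killed by powers of the generators is zero. -/
theorem eq_zero_of_killed (hM : Sat I M x) (K : ℕ) (p : M) (hp : ∀ c ∈ T, c ^ K • p = 0) : p = 0 := by
  obtain ⟨R, r, hr⟩ := exists_sum hT hM.mem K
  refine hM.reg.pow R (show x ^ R • p = x ^ R • (0 : M) from ?_)
  rw [smul_zero, ← hr, Finset.sum_smul]
  exact Finset.sum_eq_zero fun c hc => by rw [mul_smul, hp c hc, smul_zero]

include hT in
/-- Gluing: compatible families come from an element. -/
theorem glue (hM : Sat I M x) (K : ℕ) (z : A → M) (hz : ∀ c ∈ T, ∀ d ∈ T, d ^ K • z c = c ^ K • z d) :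
    ∃ a : M, ∀ c ∈ T, c ^ K • a = z c := by
  obtain ⟨R, r, hr⟩ := exists_sum hT hM.mem K
  let p : M := ∑ c ∈ T, r c • z c
  have hp : ∀ d ∈ T, d ^ K • p = x ^ R • z d := fun d hd => by
    rw [← hr, Finset.sum_smul, Finset.smul_sum]
    exact Finset.sum_congr rfl fun c hc => by rw [smul_comm, hz c hc d hd, mul_smul]
  obtain ⟨R', hR'⟩ := exists_pow_le hT K
  obtain ⟨a, ha⟩ := hM.sat_pow R R' p fun y hy => by
    have hy' := hR' hy
    clear hy
    induction hy' using Submodule.span_induction with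
    | mem y hy =>
      obtain ⟨c, hc, rfl⟩ := hy
      exact ⟨z c, hp c hc⟩
    | zero => exact ⟨0, by simp⟩
    | add a b ha' hb' ha hb =>
      obtain ⟨u, hu⟩ := ha
      obtain ⟨v, hv⟩ := hb
      exact ⟨u + v, by rw [add_smul, hu, hv, smul_add]⟩
    | smul t a ha' ha =>
      obtain ⟨u, hu⟩ := ha
      exact ⟨t • u, by rw [smul_eq_mul, mul_smul, hu, smul_comm]⟩
  exact ⟨a, fun c hc => hM.reg.pow R (show x ^ R • (c ^ K • a) = x ^ R • z c by
    rw [smul_comm, ← ha, hp c hc])⟩

include hT in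
/-- A cocycle is a coboundary, in depth three. -/
theorem coboundary (hM : Sat I M x) {y : A} (hQ : Sat I (QuotSMulTop x M) y) (K : ℕ) (w : A → A → M)
    (hw : ∀ c ∈ T, ∀ d ∈ T, ∀ e ∈ T, e ^ K • w c d - d ^ K • w c e + c ^ K • w d e = 0) :
    ∃ u : A → M, ∀ c ∈ T, ∀ d ∈ T, w c d = d ^ K • u c - c ^ K • u d := by
  -- families compatible modulo a power of `x`
  have key : ∀ (R : ℕ) (v : A → M), (∀ c ∈ T, ∀ d ∈ T, ∃ m, d ^ K • v c - c ^ K • v d = x ^ R • m) →
      ∃ (a : M) (u : A → M), ∀ c ∈ T, v c = c ^ K • a + x ^ R • u c := by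
    intro R
    induction R with
    | zero => exact fun v _ => ⟨0, v, fun c _ => by simp⟩
    | succ R ih =>
      intro v hv
      obtain ⟨ab, hab⟩ := glue hT hQ K (fun c => (Submodule.Quotient.mk (v c) : QuotSMulTop x M)) fun c hc d hd => by
        obtain ⟨m, hm⟩ := hv c hc d hd
        rw [← Submodule.Quotient.mk_smul, ← Submodule.Quotient.mk_smul, Submodule.Quotient.eq, hm,
          Submodule.mem_smul_pointwise_iff_exists]
        exact ⟨x ^ R • m, trivial, by rw [smul_smul, ← pow_succ']⟩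
      obtain ⟨a₀, rfl⟩ := Submodule.Quotient.mk_surjective _ ab
      have : ∀ c, ∃ m, c ∈ T → v c - c ^ K • a₀ = x • m := fun c => by
        by_cases hc : c ∈ T
        · have h := hab c hc
          rw [← Submodule.Quotient.mk_smul, Submodule.Quotient.eq, Submodule.mem_smul_pointwise_iff_exists] at h
          obtain ⟨m, -, hm⟩ := h
          exact ⟨-m, fun _ => by rw [smul_neg, hm, neg_sub]⟩
        · exact ⟨0, fun h => absurd h hc⟩
      choose v₁ hv₁ using this
      obtain ⟨a₁, u, hu⟩ := ih v₁ fun c hc d hd => by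
        obtain ⟨m, hm⟩ := hv c hc d hd
        refine ⟨m, hM.reg ?_⟩
        show x • (d ^ K • v₁ c - c ^ K • v₁ d) = x • (x ^ R • m)
        rw [smul_sub, smul_comm, ← hv₁ c hc, smul_comm x, ← hv₁ d hd, smul_smul x, ← pow_succ', ← hm,
          smul_sub, smul_sub, smul_comm (d ^ K) (c ^ K)]
        abel
      refine ⟨a₀ + x • a₁, u, fun c hc => ?_⟩
      rw [← sub_add_cancel (v c) (c ^ K • a₀), hv₁ c hc, hu c hc, smul_add, smul_add, smul_smul, smul_smul,
        ← pow_succ', smul_smul, mul_comm x]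
      abel
  obtain ⟨R, r, hr⟩ := exists_sum hT hM.mem K
  let v : A → M := fun c => ∑ e ∈ T, r e • w c e
  have hv : ∀ c ∈ T, ∀ d ∈ T, d ^ K • v c - c ^ K • v d = x ^ R • w c d := fun c hc d hd => by
    rw [← hr, Finset.sum_smul, Finset.smul_sum, Finset.smul_sum, ← Finset.sum_sub_distrib]
    refine Finset.sum_congr rfl fun e he => ?_
    have h1 := congrArg (fun m : M => r e • m) (hw c hc d hd e he)
    simp only [smul_add, smul_sub, smul_zero, smul_smul] at h1 ⊢
    rw [mul_comm (d ^ K), mul_comm (c ^ K)]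
    linear_combination (norm := abel) (-1 : ℤ) • h1
  obtain ⟨a, u, hu⟩ := key R v fun c hc d hd => ⟨w c d, hv c hc d hd⟩
  refine ⟨u, fun c hc d hd => hM.reg.pow R ?_⟩
  show x ^ R • w c d = x ^ R • (d ^ K • u c - c ^ K • u d)
  rw [← hv c hc d hd, hu c hc, hu d hd, smul_sub, smul_add, smul_add, smul_comm (d ^ K) (c ^ K),
    smul_comm (x ^ R) (d ^ K), smul_comm (x ^ R) (c ^ K)]
  abel

variable (T) in
/-- Compatible families modulo a high power of `J` come from elements modulo a given power. -/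
def ProSurj (J : Ideal A) : Prop :=
  ∀ n, ∃ N, ∀ (K : ℕ) (z : A → A), (∀ c ∈ T, ∀ d ∈ T, d ^ K * z c - c ^ K * z d ∈ J ^ N) →
    ∃ a, ∀ c ∈ T, z c - c ^ K * a ∈ J ^ n

variable (T) in
/-- Elements killed on the cover modulo a high power of `J` vanish modulo a given power. -/
def ProInj (J : Ideal A) : Prop :=
  ∀ n, ∃ N, ∀ (K : ℕ) (p : A), (∀ c ∈ T, c ^ K * p ∈ J ^ N) → p ∈ J ^ n

include hT in
/-- The case of quotients of depth two. -/
theorem pro_of_sat_quotient (J : Ideal A) (h : ∀ n, ∃ x, Sat I (A ⧸ J ^ n) x) :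
    ProSurj T J ∧ ProInj T J := by
  refine ⟨fun n => ⟨n, fun K z hz => ?_⟩, fun n => ⟨n, fun K p hp => ?_⟩⟩
  · obtain ⟨x, hx⟩ := h n
    obtain ⟨ab, hab⟩ := glue hT hx K (fun c => Ideal.Quotient.mk (J ^ n) (z c)) fun c hc d hd =>
      Ideal.Quotient.eq.2 (hz c hc d hd)
    obtain ⟨a, rfl⟩ := Ideal.Quotient.mk_surjective ab
    exact ⟨a, fun c hc => Ideal.Quotient.eq.1 (hab c hc).symm⟩
  · obtain ⟨x, hx⟩ := h n
    exact Ideal.Quotient.eq_zero_iff_mem.1
      (eq_zero_of_killed hT hx K (Ideal.Quotient.mk (J ^ n) p) fun c hc => Ideal.Quotient.eq_zero_iff_mem.2 (hp c hc))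

/-- Bound on the torsion along a principal ideal. -/
theorem exists_torsion_bound [IsNoetherianRing A] (f : A) :
    ∃ N, ∀ (j : ℕ) (r : A), f ^ j * r = 0 → f ^ N * r = 0 := by
  let ann : ℕ →o Ideal A :=
    ⟨fun j => LinearMap.ker (LinearMap.mulLeft A (f ^ j)), fun i j hij r hr => by
      obtain ⟨k, rfl⟩ := Nat.exists_eq_add_of_le hij
      simp only [LinearMap.mem_ker, LinearMap.mulLeft_apply] at hr ⊢
      rw [pow_add, mul_comm (f ^ i), mul_assoc, hr, mul_zero]⟩
  obtain ⟨N, hN⟩ := monotone_stabilizes_iff_noetherian.2 inferInstance ann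
  refine ⟨N, fun j r hr => ?_⟩
  have hr' : r ∈ ann j := hr
  rcases le_total j N with h | h
  · exact ann.mono h hr'
  · exact (hN j h).ge hr'

include hT in
/-- The case of a principal ideal in depth three. -/
theorem pro_of_depth_three [IsNoetherianRing A] (f : A) (hA : Sat I A x) {y : A}
    (hQ : Sat I (QuotSMulTop x A) y) : ProSurj T (Ideal.span {f}) ∧ ProInj T (Ideal.span {f}) := by
  obtain ⟨N₀, hN₀⟩ := exists_torsion_bound f
  simp only [ProSurj, ProInj, Ideal.span_singleton_pow, Ideal.mem_span_singleton']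
  refine ⟨fun n => ⟨n + N₀, fun K z hz => ?_⟩, fun n => ⟨n + N₀, fun K p hp => ?_⟩⟩
  · have : ∀ c d, ∃ w, c ∈ T → d ∈ T → w * f ^ (n + N₀) = d ^ K * z c - c ^ K * z d := fun c d => by
      by_cases h : c ∈ T ∧ d ∈ T
      · exact (hz c h.1 d h.2).imp fun w hw _ _ => hw
      · exact ⟨0, fun h1 h2 => absurd ⟨h1, h2⟩ h⟩
    choose w hw using this
    obtain ⟨u, hu⟩ := coboundary hT hA hQ K (fun c d => f ^ N₀ * w c d) fun c hc d hd e he => by
      simp only [smul_eq_mul]
      have h0 : f ^ (n + N₀) * (e ^ K * w c d - d ^ K * w c e + c ^ K * w d e) = 0 := by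
        linear_combination e ^ K * hw c d hc hd - d ^ K * hw c e hc he + c ^ K * hw d e hd he
      linear_combination hN₀ _ _ h0
    obtain ⟨a, ha⟩ := glue hT hA K (fun c => z c - f ^ n * u c) fun c hc d hd => by
      simp only [smul_eq_mul]
      have h1 : f ^ N₀ * w c d = d ^ K * u c - c ^ K * u d := hu c hc d hd
      linear_combination (-1 : A) * hw c d hc hd + f ^ n * h1
    exact ⟨a, fun c hc => ⟨u c, by have := ha c hc; simp only [smul_eq_mul] at this; linear_combination this⟩⟩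
  · have : ∀ c, ∃ w, c ∈ T → w * f ^ (n + N₀) = c ^ K * p := fun c => by
      by_cases h : c ∈ T
      · exact (hp c h).imp fun w hw _ => hw
      · exact ⟨0, fun h1 => absurd h1 h⟩
    choose w hw using this
    obtain ⟨v, hv⟩ := glue hT hA K (fun c => f ^ N₀ * w c) fun c hc d hd => by
      simp only [smul_eq_mul]
      have h0 : f ^ (n + N₀) * (d ^ K * w c - c ^ K * w d) = 0 := by
        linear_combination d ^ K * hw c hc - c ^ K * hw d hd
      linear_combination hN₀ _ _ h0
    refine ⟨v, sub_eq_zero.1 (eq_zero_of_killed hT hA K (v * f ^ n - p) fun c hc => ?_)⟩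
    have h1 : c ^ K * v = f ^ N₀ * w c := hv c hc
    simp only [smul_eq_mul]
    linear_combination f ^ n * h1 + hw c hc

end Groth.Agent.H18Pur.Formal
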