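import Mathlib
import Groth.Prelude.Def_CAlg
import Groth.Agent.H4Depth.IdealDepth
import Groth.Agent.H18Pur.Formal.Cech

/-!
# Saturation from depth
-/

set_option autoImplicit false

universe u

open RingTheory.Sequence Pointwise

namespace Groth.Agent.H18Pur.Formal

variable {A : Type u} [CommRing A] {I : Ideal A} {M : Type u} [AddCommGroup M] [Module A M]

theorem sat_of_regular_pair {x y : A} (hx : x ∈ I) (hy : y ∈ I) (hxr : IsSMulRegular M x)
    (hyr : IsSMulRegular (QuotSMulTop x M) y) : Sat I M x :=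
  sat_of_pair hx hy hxr fun z w h => by
    have h0 : y • (Submodule.Quotient.mk z : QuotSMulTop x M) = y • (0 : QuotSMulTop x M) := by
      rw [smul_zero, ← Submodule.Quotient.mk_smul, Submodule.Quotient.mk_eq_zero, h]
      exact Submodule.smul_mem_pointwise_smul w x ⊤ trivial
    obtain ⟨w', -, hw'⟩ := (Submodule.mem_smul_pointwise_iff_exists _ _ _).1
      ((Submodule.Quotient.mk_eq_zero _).1 (hyr h0))
    exact ⟨w', hw'.symm⟩

variable [IsLocalRing A] [IsNoetherianRing A]

theorem smul_top_ne_top [Module.Finite A M] [Nontrivial M] :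
    IsLocalRing.maximalIdeal A • (⊤ : Submodule A M) ≠ ⊤ := fun h =>
  top_ne_bot (α := Submodule A M) (Submodule.eq_bot_of_le_smul_of_le_jacobson_bot _ ⊤ Module.Finite.fg_top h.ge
    (IsLocalRing.maximalIdeal_le_jacobson ⊥))

theorem exists_sat_of_two_le_depth [Module.Finite A M] [Nontrivial M] (h : (2 : ℕ∞) ≤ LocCoh.depth A M) :
    ∃ x, Sat (IsLocalRing.maximalIdeal A) M x := by
  obtain ⟨rs, hlen, hmem, hreg⟩ :=
    Groth.Agent.H4Depth.exists_isWeaklyRegular_of_le_idealDepth smul_top_ne_top (n := 2) h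
  match rs, hlen with
  | [x, y], _ =>
    obtain ⟨hx, h2⟩ := (isWeaklyRegular_cons_iff _ _ _).1 hreg
    obtain ⟨hy, -⟩ := (isWeaklyRegular_cons_iff _ _ _).1 h2
    exact ⟨x, sat_of_regular_pair (hmem x (by simp)) (hmem y (by simp)) hx hy⟩

theorem exists_sat_of_three_le_depth [Module.Finite A M] [Nontrivial M] (h : (3 : ℕ∞) ≤ LocCoh.depth A M) :
    ∃ x y, Sat (IsLocalRing.maximalIdeal A) M x ∧ Sat (IsLocalRing.maximalIdeal A) (QuotSMulTop x M) y := by
  obtain ⟨rs, hlen, hmem, hreg⟩ :=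
    Groth.Agent.H4Depth.exists_isWeaklyRegular_of_le_idealDepth smul_top_ne_top (n := 3) h
  match rs, hlen with
  | [x, y, z], _ =>
    obtain ⟨hx, h2⟩ := (isWeaklyRegular_cons_iff _ _ _).1 hreg
    obtain ⟨hy, h3⟩ := (isWeaklyRegular_cons_iff _ _ _).1 h2
    obtain ⟨hz, -⟩ := (isWeaklyRegular_cons_iff _ _ _).1 h3
    exact ⟨x, y, sat_of_regular_pair (hmem x (by simp)) (hmem y (by simp)) hx hy,
      sat_of_regular_pair (hmem y (by simp)) (hmem z (by simp)) hy hz⟩

end Groth.Agent.H18Pur.Formal
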