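import Mathlib
import Groth.Agent.H18Pur.Formal.Cech

/-!
# Formal gluing for a kernel of free modules
-/

set_option autoImplicit false

universe u

namespace Groth.Agent.H18Pur.Formal

variable {A : Type u} [CommRing A]

/-- Artin–Rees for a linear map. -/
theorem exists_artinRees [IsNoetherianRing A] (J : Ideal A) {M N : Type u} [AddCommGroup M] [Module A M]
    [AddCommGroup N] [Module A N] [Module.Finite A N] (f : M →ₗ[A] N) :
    ∃ k, ∀ (n : ℕ) (x : M), f x ∈ J ^ (n + k) • (⊤ : Submodule A N) → ∃ e ∈ J ^ n • (⊤ : Submodule A M), f e = f x := by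
  obtain ⟨k, hk⟩ := Ideal.exists_pow_inf_eq_pow_smul J (LinearMap.range f)
  refine ⟨k, fun n x hx => ?_⟩
  have h := (hk (n + k) (Nat.le_add_left k n)).le ⟨hx, LinearMap.mem_range_self f x⟩
  rw [Nat.add_sub_cancel] at h
  have h2 : f x ∈ Submodule.map f (J ^ n • (⊤ : Submodule A M)) := by
    rw [Submodule.map_smul'', Submodule.map_top]
    exact (Submodule.smul_mono le_rfl inf_le_right) h
  exact h2

/-- Membership in `J^n • ⊤` of a finite free module is coordinatewise. -/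
theorem mem_smul_pi_iff (J : Ideal A) {a : ℕ} (t : Fin a → A) :
    t ∈ J • (⊤ : Submodule A (Fin a → A)) ↔ ∀ i, t i ∈ J := by
  refine ⟨fun h i => ?_, fun h => ?_⟩
  · have h2 : (LinearMap.proj i : (Fin a → A) →ₗ[A] A) t ∈ Submodule.map (LinearMap.proj i) (J • (⊤ : Submodule A (Fin a → A))) :=
      Submodule.mem_map_of_mem h
    rw [Submodule.map_smul''] at h2
    have h3 : t i ∈ J • (⊤ : Submodule A A) := Submodule.smul_mono le_rfl le_top h2
    simpa using h3
  · rw [pi_eq_sum_univ' t (R := A)]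
    exact Submodule.sum_mem _ fun i _ => Submodule.smul_mem_smul (h i) Submodule.mem_top

/-- Linear maps preserve `J • ⊤`. -/
theorem map_mem_smul_top (J : Ideal A) {M N : Type u} [AddCommGroup M] [Module A M] [AddCommGroup N] [Module A N]
    (f : M →ₗ[A] N) {x : M} (hx : x ∈ J • (⊤ : Submodule A M)) : f x ∈ J • (⊤ : Submodule A N) :=
  (Submodule.map_smul'' J ⊤ f).le.trans (Submodule.smul_mono le_rfl le_top) (Submodule.mem_map_of_mem hx)

/-- The data presenting `B` as a locally split kernel. -/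
structure Coords (T : Finset A) (B : Type u) [AddCommGroup B] [Module A B] where
  a : ℕ
  b : ℕ
  ι : B →ₗ[A] (Fin a → A)
  d : (Fin a → A) →ₗ[A] (Fin b → A)
  inj : Function.Injective ι
  exact' : ∀ t, d t = 0 ↔ ∃ y, ι y = t
  split : ∀ c ∈ T, ∃ (L : ℕ) (r : (Fin a → A) →ₗ[A] B) (s : (Fin b → A) →ₗ[A] (Fin a → A)),
    ∀ t, ι (r t) + s (d t) = c ^ L • t

variable [IsNoetherianRing A] {T : Finset A} {J : Ideal A} {B : Type u} [AddCommGroup B] [Module A B]

theorem Coords.retract (D : Coords T B) {c : A} (hc : c ∈ T) :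
    ∃ (L : ℕ) (r : (Fin D.a → A) →ₗ[A] B), ∀ y, r (D.ι y) = c ^ L • y := by
  obtain ⟨L, r, s, h⟩ := D.split c hc
  refine ⟨L, r, fun y => D.inj ?_⟩
  have := h (D.ι y)
  rwa [(D.exact' _).2 ⟨y, rfl⟩, map_zero, add_zero, ← map_smul] at this

variable (hs : ProSurj T J) (hi : ProInj T J)

include hi in
/-- Uniqueness. -/
theorem core_unique (D : Coords T B) :
    ∀ n, ∃ N, n ≤ N ∧ ∀ β : B, (∀ c ∈ T, ∃ L, c ^ L • β ∈ J ^ N • (⊤ : Submodule A B)) →
      β ∈ J ^ n • (⊤ : Submodule A B) := by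
  intro n
  obtain ⟨k, hk⟩ := exists_artinRees J D.ι
  obtain ⟨N₀, hN₀⟩ := hi (n + k)
  refine ⟨max n N₀, le_max_left _ _, fun β hβ => ?_⟩
  have : ∀ c, ∃ L, c ∈ T → c ^ L • β ∈ J ^ max n N₀ • (⊤ : Submodule A B) := fun c => by
    by_cases hc : c ∈ T
    · exact (hβ c hc).imp fun L hL _ => hL
    · exact ⟨0, fun h => absurd h hc⟩
  choose L hL using this
  have hιβ : D.ι β ∈ J ^ (n + k) • (⊤ : Submodule A (Fin D.a → A)) := by
    rw [mem_smul_pi_iff]
    refine fun i => hN₀ (T.sum L) _ fun c hc => ?_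
    obtain ⟨e, he⟩ := Nat.exists_eq_add_of_le (Finset.single_le_sum (fun x _ => Nat.zero_le (L x)) hc)
    have h1 : D.ι (c ^ L c • β) ∈ J ^ max n N₀ • (⊤ : Submodule A (Fin D.a → A)) :=
      map_mem_smul_top _ _ (hL c hc)
    rw [map_smul] at h1
    have h2 := (mem_smul_pi_iff _ _).1 h1 i
    rw [he, pow_add, mul_comm (c ^ L c), mul_assoc]
    exact Ideal.mul_mem_left _ _ (Ideal.pow_le_pow_right (le_max_right n N₀) h2)
  obtain ⟨e, he, heq⟩ := hk n β hιβ
  rwa [← D.inj heq]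

include hs hi in
/-- Existence. -/
theorem core_glue (D : Coords T B) (K : ℕ → ℕ) (z : ℕ → A → B)
    (hcompat : ∀ n, ∀ c ∈ T, ∀ e ∈ T,
      e ^ K n • z n c - c ^ K n • z n e ∈ J ^ n • (⊤ : Submodule A B))
    (htrans : ∀ n m, n ≤ m → ∀ c ∈ T,
      ∃ L, c ^ L • (c ^ K n • z m c - c ^ K m • z n c) ∈ J ^ n • (⊤ : Submodule A B)) :
    ∀ n, ∃ β : B, ∀ c ∈ T, ∃ L, c ^ L • (c ^ K n • β - z n c) ∈ J ^ n • (⊤ : Submodule A B) := by
  intro n
  obtain ⟨k, hk⟩ := exists_artinRees J D.d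
  obtain ⟨n₂, hn₂⟩ := hi (n + k)
  obtain ⟨N₀, hN₀⟩ := hs (max n n₂)
  let N := max n N₀
  have hco : ∀ i, ∃ a, ∀ c ∈ T, D.ι (z N c) i - c ^ K N * a ∈ J ^ max n n₂ := fun i =>
    hN₀ (K N) (fun c => D.ι (z N c) i) fun c hc e he => by
      have h1 := (mem_smul_pi_iff _ _).1 (map_mem_smul_top _ D.ι (hcompat N c hc e he)) i
      simp only [map_sub, map_smul, Pi.sub_apply, Pi.smul_apply, smul_eq_mul] at h1
      exact Ideal.pow_le_pow_right (le_max_right n N₀) h1
  choose t ht using hco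
  have hvec : ∀ c ∈ T, D.ι (z N c) - c ^ K N • t ∈ J ^ max n n₂ • (⊤ : Submodule A (Fin D.a → A)) := fun c hc =>
    (mem_smul_pi_iff _ _).2 fun i => ht i c hc
  have hdt : D.d t ∈ J ^ (n + k) • (⊤ : Submodule A (Fin D.b → A)) := by
    rw [mem_smul_pi_iff]
    refine fun i => hn₂ (K N) _ fun c hc => ?_
    have h1 := (mem_smul_pi_iff _ _).1 (map_mem_smul_top _ D.d (hvec c hc)) i
    rw [map_sub, (D.exact' _).2 ⟨_, rfl⟩, zero_sub, map_smul, Pi.neg_apply, neg_mem_iff, Pi.smul_apply, smul_eq_mul] at h1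
    exact Ideal.pow_le_pow_right (le_max_right n n₂) h1
  obtain ⟨e, he, heq⟩ := hk n t hdt
  obtain ⟨β, hβ⟩ := (D.exact' (t - e)).1 (by rw [map_sub, heq, sub_self])
  refine ⟨β, fun c hc => ?_⟩
  obtain ⟨L, r, hr⟩ := D.retract hc
  obtain ⟨L', hL'⟩ := htrans n N (le_max_left _ _) c hc
  refine ⟨L + L' + K N, ?_⟩
  have h1 : D.ι (z N c - c ^ K N • β) ∈ J ^ n • (⊤ : Submodule A (Fin D.a → A)) := by
    rw [map_sub, map_smul, hβ, smul_sub, sub_sub_eq_add_sub, add_sub_right_comm]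
    exact Submodule.add_mem _ ((Submodule.smul_mono (Ideal.pow_le_pow_right (le_max_left n n₂)) le_rfl) (hvec c hc))
      (Submodule.smul_mem _ _ he)
  have h2 : c ^ L • (z N c - c ^ K N • β) ∈ J ^ n • (⊤ : Submodule A B) := hr _ ▸ map_mem_smul_top _ r h1
  have h3 : c ^ (L + L' + K N) • (c ^ K n • β - z n c) =
      c ^ L • c ^ L' • (c ^ K n • z N c - c ^ K N • z n c) - c ^ (L' + K n) • c ^ L • (z N c - c ^ K N • β) := by
    simp only [smul_sub, smul_smul, ← pow_add]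
    rw [show L + (L' + K n) = L' + K n + L by ring, show L + (L' + K N) = L + L' + K N by ring,
      show L + L' + K N + K n = L' + K n + (L + K N) by ring]
    abel
  rw [h3]
  exact Submodule.sub_mem _ (Submodule.smul_mem _ _ hL') (Submodule.smul_mem _ _ h2)

end Groth.Agent.H18Pur.Formal
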