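import Mathlib

/-!
# Extending a correspondence of points modulo `J` to nilpotent thickenings
-/

set_option autoImplicit false

universe u

namespace Groth.Agent.H18Pur.Formal

variable {A : Type u} [CommRing A]

/-- A natural family of maps of points, over the algebras where a power of `J` vanishes and some
member of `T` is invertible. -/
structure PtMap (J : Ideal A) (T : Finset A) (B S : Type u) [CommRing B] [Algebra A B] [CommRing S]
    [Algebra A S] where
  toFun : ∀ (C : Type u) [CommRing C] [Algebra A C], (∃ n, (J ^ n).map (algebraMap A C) = ⊥) →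
    (∃ c ∈ T, IsUnit (algebraMap A C c)) → (B →ₐ[A] C) → (S →ₐ[A] C)
  natural : ∀ (C C' : Type u) [CommRing C] [Algebra A C] [CommRing C'] [Algebra A C'] (G : C →ₐ[A] C')
    (h₁ : ∃ n, (J ^ n).map (algebraMap A C) = ⊥) (h₂ : ∃ c ∈ T, IsUnit (algebraMap A C c))
    (h₁' : ∃ n, (J ^ n).map (algebraMap A C') = ⊥) (h₂' : ∃ c ∈ T, IsUnit (algebraMap A C' c))
    (g : B →ₐ[A] C), toFun C' h₁' h₂' (G.comp g) = G.comp (toFun C h₁ h₂ g)

variable {J : Ideal A} {T : Finset A} {B S : Type u} [CommRing B] [Algebra A B] [CommRing S] [Algebra A S]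

/-- Two maps of points are mutually inverse. -/
def PtMap.Inverse (Θ : PtMap J T B S) (Ψ : PtMap J T S B) : Prop :=
  ∀ (C : Type u) [CommRing C] [Algebra A C] (h₁ : ∃ n, (J ^ n).map (algebraMap A C) = ⊥)
    (h₂ : ∃ c ∈ T, IsUnit (algebraMap A C c)),
    (∀ g, Ψ.toFun C h₁ h₂ (Θ.toFun C h₁ h₂ g) = g) ∧ ∀ g, Θ.toFun C h₁ h₂ (Ψ.toFun C h₁ h₂ g) = g

section

variable {C : Type u} [CommRing C] [Algebra A C]

omit [CommRing B] [Algebra A B] in
theorem map_quot_eq_bot : (J ^ 1).map (algebraMap A (C ⧸ J.map (algebraMap A C))) = ⊥ := by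
  rw [pow_one, IsScalarTower.algebraMap_eq A C (C ⧸ J.map (algebraMap A C)), ← Ideal.map_map,
    Ideal.Quotient.algebraMap_eq, Ideal.map_quotient_self]

theorem ker_mk_nilpotent (hJ : ∃ n, (J ^ n).map (algebraMap A C) = ⊥) :
    IsNilpotent (RingHom.ker ((Ideal.Quotient.mkₐ A (J.map (algebraMap A C))).toRingHom)) := by
  obtain ⟨n, hn⟩ := hJ
  refine ⟨n, ?_⟩
  rw [show RingHom.ker ((Ideal.Quotient.mkₐ A (J.map (algebraMap A C))).toRingHom) = J.map (algebraMap A C) from
    Ideal.mk_ker, ← Ideal.map_pow, hn]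
  rfl

/-- `B` is formally étale at `C` if it is so after inverting an element invertible in `C`. -/
theorem lift_unique_of_away {C' : Type u} [CommRing C'] [Algebra A C'] {c : A}
    (h : Algebra.FormallyUnramified A (Localization.Away (algebraMap A B c))) (hc : IsUnit (algebraMap A C c))
    (π : C →ₐ[A] C') (hπ : IsNilpotent (RingHom.ker (π : C →+* C'))) {g₁ g₂ : B →ₐ[A] C}
    (hg : π.comp g₁ = π.comp g₂) : g₁ = g₂ := by
  have u₁ : IsUnit (g₁ (algebraMap A B c)) := by rwa [g₁.commutes]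
  have u₂ : IsUnit (g₂ (algebraMap A B c)) := by rwa [g₂.commutes]
  let e₁ : Localization.Away (algebraMap A B c) →ₐ[A] C :=
    IsLocalization.Away.liftAlgHom (algebraMap A B c) (f := g₁) u₁
  let e₂ : Localization.Away (algebraMap A B c) →ₐ[A] C :=
    IsLocalization.Away.liftAlgHom (algebraMap A B c) (f := g₂) u₂
  have h₁ : ∀ b, e₁ (algebraMap B _ b) = g₁ b := fun b => IsLocalization.Away.lift_eq (algebraMap A B c) u₁ b
  have h₂ : ∀ b, e₂ (algebraMap B _ b) = g₂ b := fun b => IsLocalization.Away.lift_eq (algebraMap A B c) u₂ b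
  have : π.comp e₁ = π.comp e₂ := AlgHom.coe_ringHom_injective
    (IsLocalization.ringHom_ext (Submonoid.powers (algebraMap A B c)) (RingHom.ext fun b => by
      have := AlgHom.congr_fun hg b
      simpa [h₁, h₂] using this))
  have he := Algebra.FormallyUnramified.lift_unique' π hπ e₁ e₂ this
  exact AlgHom.ext fun b => by rw [← h₁, ← h₂, he]

theorem exists_lift_of_away {C' : Type u} [CommRing C'] [Algebra A C'] {c : A}
    (h : Algebra.FormallySmooth A (Localization.Away (algebraMap A B c))) (hc : IsUnit (algebraMap A C' c))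
    (π : C →ₐ[A] C') (hsurj : Function.Surjective π) (hπ : IsNilpotent (RingHom.ker (π : C →+* C')))
    (g : B →ₐ[A] C') : ∃ g' : B →ₐ[A] C, π.comp g' = g := by
  have u : IsUnit (g (algebraMap A B c)) := by rwa [g.commutes]
  let e : Localization.Away (algebraMap A B c) →ₐ[A] C' :=
    IsLocalization.Away.liftAlgHom (algebraMap A B c) (f := g) u
  refine ⟨(Algebra.FormallySmooth.liftOfSurjective e π hsurj hπ).comp (IsScalarTower.toAlgHom A B _), ?_⟩
  rw [← AlgHom.comp_assoc, Algebra.FormallySmooth.comp_liftOfSurjective]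
  exact AlgHom.ext fun b => IsLocalization.Away.lift_eq (algebraMap A B c) u b

end

/-- An étale algebra and an algebra étale on the cover with the same points modulo `J` have the same
points over nilpotent thickenings. -/
theorem exists_ptMaps (hB : ∀ c ∈ T, Algebra.Etale A (Localization.Away (algebraMap A B c))) [Algebra.Etale A S]
    (ε : ∀ (C : Type u) [CommRing C] [Algebra A C], J.map (algebraMap A C) = ⊥ →
      (∃ c ∈ T, IsUnit (algebraMap A C c)) → (B →ₐ[A] C) ≃ (S →ₐ[A] C))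
    (hε : ∀ (C C' : Type u) [CommRing C] [Algebra A C] [CommRing C'] [Algebra A C'] (G : C →ₐ[A] C')
      (h₁ : J.map (algebraMap A C) = ⊥) (h₂ : ∃ c ∈ T, IsUnit (algebraMap A C c))
      (h₁' : J.map (algebraMap A C') = ⊥) (h₂' : ∃ c ∈ T, IsUnit (algebraMap A C' c))
      (g : B →ₐ[A] C), ε C' h₁' h₂' (G.comp g) = G.comp (ε C h₁ h₂ g)) :
    ∃ (Θ : PtMap J T B S) (Ψ : PtMap J T S B), Θ.Inverse Ψ := by
  classical
  let π : ∀ (C : Type u) [CommRing C] [Algebra A C], C →ₐ[A] C ⧸ J.map (algebraMap A C) :=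
    fun C _ _ => Ideal.Quotient.mkₐ A _
  have hq : ∀ (C : Type u) [CommRing C] [Algebra A C],
      J.map (algebraMap A (C ⧸ J.map (algebraMap A C))) = ⊥ := fun C _ _ => by
    simpa using map_quot_eq_bot (J := J) (C := C)
  have hu : ∀ (C : Type u) [CommRing C] [Algebra A C], (∃ c ∈ T, IsUnit (algebraMap A C c)) →
      ∃ c ∈ T, IsUnit (algebraMap A (C ⧸ J.map (algebraMap A C)) c) := fun C _ _ ⟨c, hc, h⟩ =>
    ⟨c, hc, by have := h.map (π C); rwa [AlgHom.commutes] at this⟩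
  have fwd : ∀ (C : Type u) [CommRing C] [Algebra A C] (h₁ : ∃ n, (J ^ n).map (algebraMap A C) = ⊥)
      (h₂ : ∃ c ∈ T, IsUnit (algebraMap A C c)) (g : B →ₐ[A] C),
      ∃! h : S →ₐ[A] C, (π C).comp h = ε _ (hq C) (hu C h₂) ((π C).comp g) := fun C _ _ h₁ h₂ g =>
    ⟨_, Algebra.FormallySmooth.comp_liftOfSurjective _ _ (Ideal.Quotient.mkₐ_surjective A _) (ker_mk_nilpotent h₁),
      fun h hh => Algebra.FormallyUnramified.lift_unique' (π C) (ker_mk_nilpotent h₁) _ _
        (hh.trans (Algebra.FormallySmooth.comp_liftOfSurjective _ _ _ _).symm)⟩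
  have bwd : ∀ (C : Type u) [CommRing C] [Algebra A C] (h₁ : ∃ n, (J ^ n).map (algebraMap A C) = ⊥)
      (h₂ : ∃ c ∈ T, IsUnit (algebraMap A C c)) (h : S →ₐ[A] C),
      ∃! g : B →ₐ[A] C, (π C).comp g = (ε _ (hq C) (hu C h₂)).symm ((π C).comp h) := fun C _ _ h₁ h₂ h => by
    obtain ⟨c, hcT, hc⟩ := id h₂
    haveI := hB c hcT
    obtain ⟨g, hg⟩ := exists_lift_of_away (c := c) inferInstance
      (by have := hc.map (π C); rwa [AlgHom.commutes] at this) (π C) (Ideal.Quotient.mkₐ_surjective A _)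
      (ker_mk_nilpotent h₁) ((ε _ (hq C) (hu C h₂)).symm ((π C).comp h))
    exact ⟨g, hg, fun g' hg' => lift_unique_of_away (c := c) inferInstance hc (π C) (ker_mk_nilpotent h₁)
      (hg'.trans hg.symm)⟩
  choose F hF hFu using fwd
  choose G hG hGu using bwd
  beta_reduce at hF hFu hG hGu
  let induced : ∀ (C C' : Type u) [CommRing C] [Algebra A C] [CommRing C'] [Algebra A C'] (H : C →ₐ[A] C'),
      ∃ H₀ : C ⧸ J.map (algebraMap A C) →ₐ[A] C' ⧸ J.map (algebraMap A C'), H₀.comp (π C) = (π C').comp H :=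
    fun C C' _ _ _ _ H => ⟨Ideal.Quotient.liftₐ _ ((π C').comp H) (fun a ha => by
      have : J.map (algebraMap A C) ≤ RingHom.ker ((π C').comp H) := by
        rw [Ideal.map_le_iff_le_comap]
        intro j hj
        rw [Ideal.mem_comap, RingHom.mem_ker, AlgHom.commutes]
        exact (hq C').le (Ideal.mem_map_of_mem _ hj)
      exact this ha), Ideal.Quotient.liftₐ_comp _ _ _⟩
  refine ⟨⟨fun C _ _ => F C, ?_⟩, ⟨fun C _ _ => G C, ?_⟩, fun C _ _ h₁ h₂ => ⟨fun g => ?_, fun h => ?_⟩⟩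
  · intro C C' _ _ _ _ H h₁ h₂ h₁' h₂' g
    obtain ⟨H₀, hH₀⟩ := induced C C' H
    refine (hFu C' h₁' h₂' (H.comp g) _ ?_).symm
    beta_reduce
    rw [← AlgHom.comp_assoc, ← hH₀, AlgHom.comp_assoc, hF C h₁ h₂ g,
      ← hε _ _ H₀ (hq C) (hu C h₂) (hq C') (hu C' h₂'), ← AlgHom.comp_assoc, hH₀, AlgHom.comp_assoc]
  · intro C C' _ _ _ _ H h₁ h₂ h₁' h₂' h
    obtain ⟨H₀, hH₀⟩ := induced C C' H
    refine (hGu C' h₁' h₂' (H.comp h) _ ?_).symm
    beta_reduce
    rw [← AlgHom.comp_assoc, ← hH₀, AlgHom.comp_assoc, hG C h₁ h₂ h]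
    refine (ε _ (hq C') (hu C' h₂')).injective ?_
    rw [hε _ _ H₀ (hq C) (hu C h₂) (hq C') (hu C' h₂'), Equiv.apply_symm_apply, Equiv.apply_symm_apply,
      ← AlgHom.comp_assoc, hH₀, AlgHom.comp_assoc]
  · exact (hGu C h₁ h₂ _ g (by rw [hF, Equiv.symm_apply_apply])).symm
  · exact (hFu C h₁ h₂ _ h (by rw [hG, Equiv.apply_symm_apply])).symm

end Groth.Agent.H18Pur.Formal
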