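import Mathlib
import Groth.Agent.H18Pur.Formal.Lift

/-!
# Localizations of truncations
-/

set_option autoImplicit false

universe u

namespace Groth.Agent.H18Pur.Formal

variable {A : Type u} [CommRing A] (J : Ideal A) (R : Type u) [CommRing R] [Algebra A R]

/-- `(R / J^n R)_c`. -/
abbrev Loc (n : ℕ) (c : A) : Type u :=
  Localization.Away (algebraMap A (R ⧸ (J ^ n).map (algebraMap A R)) c)

/-- The map `R → (R / J^n R)_c`. -/
noncomputable def toLoc (n : ℕ) (c : A) : R →ₐ[A] Loc J R n c :=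
  (IsScalarTower.toAlgHom A (R ⧸ (J ^ n).map (algebraMap A R)) _).comp (Ideal.Quotient.mkₐ A _)

variable {J R} {n : ℕ} {c : A}

theorem loc_nil : (J ^ n).map (algebraMap A (Loc J R n c)) = ⊥ := by
  rw [← (toLoc J R n c).comp_algebraMap, ← Ideal.map_map, eq_bot_iff, Ideal.map_le_iff_le_comap]
  intro x hx
  rw [Ideal.mem_comap, Ideal.mem_bot]
  show algebraMap _ (Loc J R n c) (Ideal.Quotient.mk ((J ^ n).map (algebraMap A R)) x) = 0
  rw [Ideal.Quotient.eq_zero_iff_mem.2 hx, map_zero]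

theorem loc_nil' : ∃ k, (J ^ k).map (algebraMap A (Loc J R n c)) = ⊥ := ⟨n, loc_nil⟩

theorem loc_unit : IsUnit (algebraMap A (Loc J R n c) c) := by
  rw [IsScalarTower.algebraMap_apply A (R ⧸ (J ^ n).map (algebraMap A R)) (Loc J R n c)]
  exact IsLocalization.Away.algebraMap_isUnit _

theorem loc_unit' {T : Finset A} (hc : c ∈ T) : ∃ d ∈ T, IsUnit (algebraMap A (Loc J R n c) d) :=
  ⟨c, hc, loc_unit⟩

theorem loc_lift {C : Type u} [CommRing C] [Algebra A C] (hC : (J ^ n).map (algebraMap A C) = ⊥)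
    (hc : IsUnit (algebraMap A C c)) (g : R →ₐ[A] C) : ∃ G : Loc J R n c →ₐ[A] C, G.comp (toLoc J R n c) = g := by
  have hg : ∀ a ∈ (J ^ n).map (algebraMap A R), g a = 0 := by
    show (J ^ n).map (algebraMap A R) ≤ RingHom.ker g
    rw [Ideal.map_le_iff_le_comap]
    intro a ha
    rw [Ideal.mem_comap, RingHom.mem_ker, g.commutes]
    exact hC.le (Ideal.mem_map_of_mem _ ha)
  let g' := Ideal.Quotient.liftₐ _ g hg
  have u : IsUnit (g' (algebraMap A _ c)) := by rwa [g'.commutes]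
  refine ⟨IsLocalization.Away.liftAlgHom (algebraMap A _ c) (f := g') u, AlgHom.ext fun x => ?_⟩
  exact IsLocalization.Away.lift_eq (algebraMap A (R ⧸ (J ^ n).map (algebraMap A R)) c) u _

theorem loc_hom_ext {C : Type u} [CommRing C] [Algebra A C] {G₁ G₂ : Loc J R n c →ₐ[A] C}
    (h : G₁.comp (toLoc J R n c) = G₂.comp (toLoc J R n c)) : G₁ = G₂ :=
  AlgHom.coe_ringHom_injective
    (IsLocalization.ringHom_ext (Submonoid.powers (algebraMap A (R ⧸ (J ^ n).map (algebraMap A R)) c))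
      (RingHom.ext fun b => by
        obtain ⟨r, rfl⟩ := Ideal.Quotient.mk_surjective b
        exact AlgHom.congr_fun h r))

theorem loc_eq_iff {x y : R} :
    toLoc J R n c x = toLoc J R n c y ↔ ∃ L : ℕ, c ^ L • (x - y) ∈ J ^ n • (⊤ : Submodule A R) := by
  show algebraMap _ (Loc J R n c) (Ideal.Quotient.mk ((J ^ n).map (algebraMap A R)) x) =
    algebraMap _ _ (Ideal.Quotient.mk ((J ^ n).map (algebraMap A R)) y) ↔ _
  rw [Ideal.smul_top_eq_map, IsLocalization.eq_iff_exists (Submonoid.powers (algebraMap A (R ⧸ (J ^ n).map (algebraMap A R)) c))]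
  simp only [Submodule.restrictScalars_mem, Subtype.exists, Submonoid.mem_powers_iff,
    exists_prop, exists_exists_eq_and, ← Ideal.Quotient.mk_algebraMap, ← map_pow, ← map_mul, Ideal.Quotient.eq,
    Algebra.smul_def, mul_sub]

theorem loc_surj (t : Loc J R n c) : ∃ (K : ℕ) (x : R), c ^ K • t = toLoc J R n c x := by
  obtain ⟨K, r, hr⟩ := IsLocalization.Away.surj (algebraMap A (R ⧸ (J ^ n).map (algebraMap A R)) c) t
  obtain ⟨x, rfl⟩ := Ideal.Quotient.mk_surjective r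
  refine ⟨K, x, ?_⟩
  rw [Algebra.smul_def, IsScalarTower.algebraMap_apply A (R ⧸ (J ^ n).map (algebraMap A R)) (Loc J R n c), map_pow, map_pow]
  exact (mul_comm _ _).trans hr

/-- Transition maps. -/
theorem loc_trans {m : ℕ} {d : A} (hnm : n ≤ m) (hd : IsUnit (algebraMap A (Loc J R n d) c)) :
    ∃ G : Loc J R m c →ₐ[A] Loc J R n d, G.comp (toLoc J R m c) = toLoc J R n d :=
  loc_lift (le_bot_iff.1 ((Ideal.map_mono (Ideal.pow_le_pow_right hnm)).trans loc_nil.le)) hd _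

theorem loc_unit_mul_left {e : A} : IsUnit (algebraMap A (Loc J R n (c * e)) c) :=
  isUnit_of_mul_isUnit_left (y := algebraMap A (Loc J R n (c * e)) e) (by rw [← map_mul]; exact loc_unit)

theorem loc_unit_mul_right {e : A} : IsUnit (algebraMap A (Loc J R n (c * e)) e) :=
  isUnit_of_mul_isUnit_right (x := algebraMap A (Loc J R n (c * e)) c) (by rw [← map_mul]; exact loc_unit)

theorem loc_smul_cancel {K : ℕ} {x y : Loc J R n c} (h : c ^ K • x = c ^ K • y) : x = y := by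
  rw [Algebra.smul_def, Algebra.smul_def, map_pow] at h
  exact ((loc_unit (J := J) (R := R) (n := n) (c := c)).pow K).mul_left_cancel h

variable {T : Finset A} {R' : Type u} [CommRing R'] [Algebra A R'] (Θ : PtMap J T R R')

/-- The section of `R` over the cover attached to an element of `R'`. -/
noncomputable def PtMap.val (n : ℕ) {c : A} (hc : c ∈ T) : R' →ₐ[A] Loc J R n c :=
  Θ.toFun _ loc_nil' (loc_unit' hc) (toLoc J R n c)

theorem PtMap.val_natural {m : ℕ} (hc : c ∈ T) {C : Type u} [CommRing C] [Algebra A C]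
    (G : Loc J R m c →ₐ[A] C) (hC : ∃ k, (J ^ k).map (algebraMap A C) = ⊥) (hC' : ∃ d ∈ T, IsUnit (algebraMap A C d))
    (s : R') : G (Θ.val m hc s) = Θ.toFun C hC hC' (G.comp (toLoc J R m c)) s :=
  (AlgHom.congr_fun (Θ.natural _ C G loc_nil' (loc_unit' hc) hC hC' _) s).symm

theorem PtMap.val_trans {m : ℕ} (hnm : n ≤ m) (hc : c ∈ T) {G : Loc J R m c →ₐ[A] Loc J R n c}
    (hG : G.comp (toLoc J R m c) = toLoc J R n c) (s : R') : G (Θ.val m hc s) = Θ.val n hc s := by
  rw [Θ.val_natural hc G loc_nil' (loc_unit' hc), hG]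
  rfl

/-- Representatives of a natural section at every level, compatible. -/
theorem PtMap.exists_reps (s : R') : ∃ (K : ℕ → ℕ) (z : ℕ → A → R),
    (∀ n, ∀ c ∈ T, ∀ hc : c ∈ T, c ^ K n • Θ.val n hc s = toLoc J R n c (z n c)) ∧
    (∀ n, ∀ c ∈ T, ∀ e ∈ T, e ^ K n • z n c - c ^ K n • z n e ∈ J ^ n • (⊤ : Submodule A R)) ∧
    ∀ n m, n ≤ m → ∀ c ∈ T, ∃ L, c ^ L • (c ^ K n • z m c - c ^ K m • z n c) ∈ J ^ n • (⊤ : Submodule A R) := by
  classical
  have h : ∀ n c, ∃ (K : ℕ) (x : R), ∀ hc : c ∈ T, c ^ K • Θ.val n hc s = toLoc J R n c x := fun n c => by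
    by_cases hc : c ∈ T
    · obtain ⟨K, x, hx⟩ := loc_surj (Θ.val n hc s)
      exact ⟨K, x, fun _ => hx⟩
    · exact ⟨0, 0, fun h => absurd h hc⟩
  choose K₀ x hx using h
  let K₁ : ℕ → ℕ := fun n => T.sum (K₀ n)
  let y : ℕ → A → R := fun n c => c ^ (K₁ n - K₀ n c) • x n c
  have hy : ∀ n c, ∀ hc : c ∈ T, c ^ K₁ n • Θ.val n hc s = toLoc J R n c (y n c) := fun n c hc => by
    have hle : K₀ n c ≤ K₁ n := Finset.single_le_sum (fun i _ => Nat.zero_le (K₀ n i)) hc
    rw [map_smul, ← hx n c hc, smul_smul, ← pow_add, Nat.sub_add_cancel hle]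
  have hco : ∀ n c e, ∃ L : ℕ, c ∈ T → e ∈ T →
      (c * e) ^ L • (e ^ K₁ n • y n c - c ^ K₁ n • y n e) ∈ J ^ n • (⊤ : Submodule A R) := fun n c e => by
    by_cases h : c ∈ T ∧ e ∈ T
    · obtain ⟨hc, he⟩ := h
      obtain ⟨G₁, hG₁⟩ := loc_trans (J := J) (R := R) (le_refl n) (loc_unit_mul_left (c := c) (e := e))
      obtain ⟨G₂, hG₂⟩ := loc_trans (J := J) (R := R) (le_refl n) (loc_unit_mul_right (c := c) (e := e))
      have hu : ∃ d ∈ T, IsUnit (algebraMap A (Loc J R n (c * e)) d) := ⟨c, hc, loc_unit_mul_left⟩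
      have e₁ := congrArg G₁ (hy n c hc)
      have e₂ := congrArg G₂ (hy n e he)
      rw [map_smul, Θ.val_natural hc G₁ loc_nil' hu, hG₁, ← AlgHom.comp_apply, hG₁] at e₁
      rw [map_smul, Θ.val_natural he G₂ loc_nil' hu, hG₂, ← AlgHom.comp_apply, hG₂] at e₂
      have h3 : toLoc J R n (c * e) (e ^ K₁ n • y n c) = toLoc J R n (c * e) (c ^ K₁ n • y n e) := by
        rw [map_smul (toLoc J R n (c * e)) (e ^ K₁ n) (y n c), map_smul (toLoc J R n (c * e)) (c ^ K₁ n) (y n e),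
          ← e₁, ← e₂, smul_comm]
      exact (loc_eq_iff.1 h3).imp fun L hL _ _ => hL
    · exact ⟨0, fun h1 h2 => absurd ⟨h1, h2⟩ h⟩
  choose L hL using hco
  let L' : ℕ → ℕ := fun n => T.sum fun c => T.sum (L n c)
  have hz : ∀ n c, ∀ hc : c ∈ T, c ^ (K₁ n + L' n) • Θ.val n hc s = toLoc J R n c (c ^ L' n • y n c) := fun n c hc => by
    rw [map_smul, ← hy n c hc, smul_smul, ← pow_add, add_comm]
  refine ⟨fun n => K₁ n + L' n, fun n c => c ^ L' n • y n c, fun n c _ hc => hz n c hc, fun n c hc e he => ?_,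
    fun n m hnm c hc => ?_⟩
  · obtain ⟨D, hD⟩ := Nat.exists_eq_add_of_le (show L n c e ≤ L' n from
      (Finset.single_le_sum (fun i _ => Nat.zero_le (L n c i)) he).trans
        (Finset.single_le_sum (f := fun c => T.sum (L n c)) (fun i _ => Nat.zero_le _) hc))
    have h4 : e ^ (K₁ n + L' n) • c ^ L' n • y n c - c ^ (K₁ n + L' n) • e ^ L' n • y n e =
        (c * e) ^ D • (c * e) ^ L n c e • (e ^ K₁ n • y n c - c ^ K₁ n • y n e) := by
      simp only [smul_sub, smul_smul, mul_pow, hD]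
      congr 2 <;> ring
    rw [h4]
    exact Submodule.smul_mem _ _ (hL n c e hc he)
  · obtain ⟨G, hG⟩ := loc_trans (J := J) (R := R) hnm (loc_unit (c := c))
    refine loc_eq_iff.1 ?_
    have e₁ := congrArg G (hz m c hc)
    rw [map_smul, Θ.val_trans hnm hc hG, ← AlgHom.comp_apply, hG] at e₁
    beta_reduce
    rw [map_smul (toLoc J R n c) (c ^ (K₁ n + L' n)) (c ^ L' m • y m c),
      map_smul (toLoc J R n c) (c ^ (K₁ m + L' m)) (c ^ L' n • y n c), ← e₁, ← hz n c hc, smul_comm]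

end Groth.Agent.H18Pur.Formal
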