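import Mathlib
import Groth.Agent.H18Pur.Formal.Cech
import Groth.Agent.H18Pur.Formal.Glue
import Groth.Agent.H18Pur.Formal.Loc

/-!
# The truncations of `B` and `S` agree
-/

set_option autoImplicit false

universe u

namespace Groth.Agent.H18Pur.Formal

variable {A : Type u} [CommRing A] {J : Ideal A}

/-- Free coordinates of a truncation of a flat algebra finite modulo `J`. -/
theorem exists_free_coords [IsLocalRing A] (hJ : J ≤ IsLocalRing.maximalIdeal A) (S : Type u) [CommRing S]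
    [Algebra A S] [Module.Flat A S] [Module.Finite A (S ⧸ J • (⊤ : Submodule A S))] (N : ℕ) :
    ∃ (r : ℕ) (b : Fin r → S), (∀ s, ∃ a : Fin r → A, s - ∑ i, a i • b i ∈ J ^ N • (⊤ : Submodule A S)) ∧
      ∀ a : Fin r → A, ∑ i, a i • b i ∈ J ^ N • (⊤ : Submodule A S) → ∀ i, a i ∈ J ^ N := by
  classical
  rcases eq_or_ne N 0 with rfl | hN
  · exact ⟨0, Fin.elim0, fun s => ⟨Fin.elim0, by simp [Ideal.map_top]⟩, fun a _ i => Fin.elim0 i⟩
  haveI : Nontrivial (A ⧸ J ^ N) := Ideal.Quotient.nontrivial_iff.2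
    (ne_top_of_le_ne_top (IsLocalRing.maximalIdeal.isMaximal A).ne_top ((Ideal.pow_le_self hN).trans hJ))
  haveI : IsLocalRing (A ⧸ J ^ N) := IsLocalRing.of_surjective' (Ideal.Quotient.mk _) Ideal.Quotient.mk_surjective
  -- finiteness
  obtain ⟨gens, hgens⟩ := Module.Finite.fg_top (R := A) (M := S ⧸ J • (⊤ : Submodule A S))
  choose g hg using fun q : S ⧸ J • (⊤ : Submodule A S) => Submodule.Quotient.mk_surjective _ q
  let M : Submodule A S := Submodule.span A (g '' gens)
  have hM : M ⊔ J • (⊤ : Submodule A S) = ⊤ := by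
    have h1 : Submodule.map (J • (⊤ : Submodule A S)).mkQ M = ⊤ := by
      rw [Submodule.map_span, ← Set.image_comp, show ((J • (⊤ : Submodule A S)).mkQ ∘ g) = id from funext hg,
        Set.image_id, hgens]
    have h2 := congrArg (Submodule.comap (J • (⊤ : Submodule A S)).mkQ) h1
    rwa [Submodule.comap_map_eq, Submodule.ker_mkQ, Submodule.comap_top] at h2
  have hMk : ∀ k, M ⊔ J ^ k • (⊤ : Submodule A S) = ⊤ := by
    intro k
    induction k with
    | zero => simp [Ideal.map_top]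
    | succ k ih =>
      refine eq_top_iff.2 (ih.ge.trans (sup_le le_sup_left ?_))
      conv_lhs => rw [← hM, Submodule.smul_sup, ← Submodule.mul_smul, ← pow_succ]
      exact sup_le (Submodule.smul_le_right.trans le_sup_left) le_sup_right
  let e : TensorProduct A (A ⧸ J ^ N) S ≃ₗ[A] S ⧸ J ^ N • (⊤ : Submodule A S) :=
    TensorProduct.quotTensorEquivQuotSMul S (J ^ N)
  have he : ∀ s, e (1 ⊗ₜ s) = Submodule.Quotient.mk s := fun s => by
    have := TensorProduct.quotTensorEquivQuotSMul_mk_tmul (I := J ^ N) (1 : A) s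
    simpa [e] using this
  haveI : Module.Finite A (TensorProduct A (A ⧸ J ^ N) S) := by
    haveI : Module.Finite A M := Module.Finite.span_of_finite A (gens.finite_toSet.image g)
    haveI : Module.Finite A (S ⧸ J ^ N • (⊤ : Submodule A S)) :=
      Module.Finite.of_surjective ((J ^ N • (⊤ : Submodule A S)).mkQ.comp M.subtype) fun q => by
        obtain ⟨s, rfl⟩ := Submodule.Quotient.mk_surjective _ q
        obtain ⟨m, hm, j, hj, rfl⟩ := Submodule.mem_sup.1 ((hMk N).ge (Submodule.mem_top (x := s)))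
        exact ⟨⟨m, hm⟩, (Submodule.Quotient.eq _).2 (by simpa using hj)⟩
    exact Module.Finite.equiv e.symm
  haveI : Module.Finite (A ⧸ J ^ N) (TensorProduct A (A ⧸ J ^ N) S) :=
    Module.Finite.of_restrictScalars_finite A _ _
  haveI : Module.Free (A ⧸ J ^ N) (TensorProduct A (A ⧸ J ^ N) S) := Module.free_of_flat_of_isLocalRing
  let bas := Module.finBasis (A ⧸ J ^ N) (TensorProduct A (A ⧸ J ^ N) S)
  choose b hb using fun i => Submodule.Quotient.mk_surjective _ (e (bas i))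
  have hb' : ∀ i, bas i = (1 : A ⧸ J ^ N) ⊗ₜ b i := fun i => e.injective (by rw [he, hb])
  have hsum : ∀ a : Fin _ → A, (1 : A ⧸ J ^ N) ⊗ₜ[A] (∑ i, a i • b i) =
      ∑ i, (Ideal.Quotient.mk (J ^ N) (a i)) • bas i := fun a => by
    rw [TensorProduct.tmul_sum]
    exact Finset.sum_congr rfl fun i _ => by
      rw [TensorProduct.tmul_smul, hb', ← Ideal.Quotient.algebraMap_eq, algebraMap_smul]
  refine ⟨_, b, fun s => ?_, fun a ha i => ?_⟩
  · choose a ha using fun i => Ideal.Quotient.mk_surjective (bas.repr ((1 : A ⧸ J ^ N) ⊗ₜ[A] s) i)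
    refine ⟨a, (Submodule.Quotient.eq _).1 ?_⟩
    rw [← he, ← he, hsum]
    simp only [ha, bas.sum_repr]
  · have h0 : e ((1 : A ⧸ J ^ N) ⊗ₜ[A] (∑ i, a i • b i)) = 0 := by
      rw [he, Submodule.Quotient.mk_eq_zero]; exact ha
    rw [LinearEquiv.map_eq_zero_iff, hsum] at h0
    exact Ideal.Quotient.eq_zero_iff_mem.1
      (Fintype.linearIndependent_iff.1 bas.linearIndependent _ h0 i)

variable {T : Finset A} {B S : Type u} [CommRing B] [Algebra A B] [CommRing S] [Algebra A S]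

theorem PtMap.Inverse.symm {Θ : PtMap J T B S} {Ψ : PtMap J T S B} (h : Θ.Inverse Ψ) : Ψ.Inverse Θ :=
  fun C _ _ h₁ h₂ => ⟨(h C h₁ h₂).2, (h C h₁ h₂).1⟩

theorem PtMap.Inverse.val_eq {Θ : PtMap J T B S} {Ψ : PtMap J T S B} (h : Θ.Inverse Ψ) {n : ℕ} {c : A} (hc : c ∈ T)
    {s : S} {β : B} (hs : toLoc J B n c β = Θ.val n hc s) : Ψ.val n hc β = toLoc J S n c s := by
  obtain ⟨G, hG⟩ := loc_lift (J := J) (R := B) (n := n) (c := c) (C := Loc J S n c) loc_nil loc_unit (Ψ.val n hc)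
  have h1 : G.comp (Θ.val n hc) = toLoc J S n c := by
    rw [PtMap.val, ← Θ.natural _ _ G loc_nil' (loc_unit' hc) loc_nil' (loc_unit' hc), hG]
    exact (h (Loc J S n c) loc_nil' (loc_unit' hc)).2 _
  rw [← h1, ← hG, AlgHom.comp_apply, AlgHom.comp_apply, hs]

/-- `β` has the points of `s` on the cover modulo `J^n`. -/
def Match (Θ : PtMap J T B S) (n : ℕ) (s : S) (β : B) : Prop :=
  ∀ c, ∀ hc : c ∈ T, toLoc J B n c β = Θ.val n hc s

variable {Θ : PtMap J T B S}

theorem Match.mono {n m : ℕ} (hnm : n ≤ m) {s : S} {β : B} (h : Match Θ m s β) : Match Θ n s β := fun c hc => by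
  obtain ⟨G, hG⟩ := loc_trans (J := J) (R := B) hnm (loc_unit (c := c))
  rw [← Θ.val_trans hnm hc hG, ← h c hc, ← AlgHom.comp_apply, hG]

theorem Match.add {n : ℕ} {s t : S} {β γ : B} (h : Match Θ n s β) (h' : Match Θ n t γ) :
    Match Θ n (s + t) (β + γ) := fun c hc => by rw [map_add, map_add, h c hc, h' c hc]

theorem Match.sub {n : ℕ} {s t : S} {β γ : B} (h : Match Θ n s β) (h' : Match Θ n t γ) :
    Match Θ n (s - t) (β - γ) := fun c hc => by rw [map_sub, map_sub, h c hc, h' c hc]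

theorem Match.mul {n : ℕ} {s t : S} {β γ : B} (h : Match Θ n s β) (h' : Match Θ n t γ) :
    Match Θ n (s * t) (β * γ) := fun c hc => by rw [map_mul, map_mul, h c hc, h' c hc]

theorem Match.algebraMap (n : ℕ) (a : A) : Match Θ n (algebraMap A S a) (algebraMap A B a) := fun c hc => by
  rw [AlgHom.commutes, AlgHom.commutes]

theorem Match.smul {n : ℕ} (a : A) {s : S} {β : B} (h : Match Θ n s β) : Match Θ n (a • s) (a • β) := fun c hc => by
  rw [map_smul, map_smul, h c hc]

variable [IsNoetherianRing A] (hs : ProSurj T J) (hi : ProInj T J) (D : Coords T B)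

include hi D in
theorem match_unique (n : ℕ) : ∃ N, n ≤ N ∧ ∀ (s : S) (β γ : B), Match Θ N s β → Match Θ N s γ →
    β - γ ∈ J ^ n • (⊤ : Submodule A B) := by
  obtain ⟨N, hN, hu⟩ := core_unique hi D n
  exact ⟨N, hN, fun s β γ h h' => hu _ fun c hc => loc_eq_iff.1 ((h c hc).trans (h' c hc).symm)⟩

include hs hi D in
theorem match_exists (n : ℕ) (s : S) : ∃ β, Match Θ n s β := by
  obtain ⟨K, z, h1, h2, h3⟩ := Θ.exists_reps s
  obtain ⟨β, hβ⟩ := core_glue hs hi D K z h2 h3 n
  refine ⟨β, fun c hc => loc_smul_cancel (K := K n) ?_⟩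
  rw [h1 n c hc hc, ← map_smul]
  exact loc_eq_iff.2 (hβ c hc)

variable [IsLocalRing A] (hJ : J ≤ IsLocalRing.maximalIdeal A) [Module.Flat A S]
  [Module.Finite A (S ⧸ J • (⊤ : Submodule A S))]

include hs hJ in
theorem exists_match {Ψ : PtMap J T S B} (hinv : Θ.Inverse Ψ) (n : ℕ) (β : B) : ∃ s : S, Match Θ n s β := by
  obtain ⟨N₀, hN₀⟩ := hs n
  obtain ⟨K, z, h1, h2, -⟩ := Ψ.exists_reps β
  let N := max n N₀
  obtain ⟨r, b, hb₁, hb₂⟩ := exists_free_coords hJ S N
  choose a ha using fun c => hb₁ (z N c)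
  have hco : ∀ i, ∃ t, ∀ c ∈ T, a c i - c ^ K N * t ∈ J ^ n := fun i =>
    hN₀ (K N) (fun c => a c i) fun c hc d hd => Ideal.pow_le_pow_right (le_max_right n N₀) <| by
      refine hb₂ (fun i => d ^ K N * a c i - c ^ K N * a d i) ?_ i
      have h4 : ∑ j, (d ^ K N * a c j - c ^ K N * a d j) • b j = (d ^ K N • z N c - c ^ K N • z N d) -
          (d ^ K N • (z N c - ∑ j, a c j • b j) - c ^ K N • (z N d - ∑ j, a d j • b j)) := by
        simp only [sub_smul, mul_smul, Finset.sum_sub_distrib, ← Finset.smul_sum, smul_sub]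
        abel
      rw [h4]
      exact Submodule.sub_mem _ (h2 N c hc d hd)
        (Submodule.sub_mem _ (Submodule.smul_mem _ _ (ha c)) (Submodule.smul_mem _ _ (ha d)))
  choose t ht using hco
  refine ⟨∑ i, t i • b i, fun c hc => ?_⟩
  have hmem : c ^ K N • ∑ i, t i • b i - z N c ∈ J ^ n • (⊤ : Submodule A S) := by
    have h4 : c ^ K N • ∑ i, t i • b i - z N c =
        -(∑ i, (a c i - c ^ K N * t i) • b i) - (z N c - ∑ i, a c i • b i) := by
      simp only [sub_smul, mul_smul, Finset.sum_sub_distrib, ← Finset.smul_sum]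
      abel
    rw [h4]
    exact Submodule.sub_mem _ (Submodule.neg_mem _ (Submodule.sum_mem _ fun i _ =>
      Submodule.smul_mem_smul (ht i c hc) Submodule.mem_top))
      (Submodule.smul_mono (Ideal.pow_le_pow_right (le_max_left n N₀)) le_rfl (ha c))
  obtain ⟨G, hG⟩ := loc_trans (J := J) (R := S) (le_max_left n N₀) (loc_unit (c := c))
  have h5 : toLoc J S n c (∑ i, t i • b i) = Ψ.val n hc β := loc_smul_cancel (K := K N) <| by
    have h6 := congrArg G (h1 N c hc hc)
    rw [map_smul, Ψ.val_trans (le_max_left n N₀) hc hG, ← AlgHom.comp_apply, hG] at h6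
    rw [h6, ← map_smul]
    exact loc_eq_iff.2 ⟨0, by rw [pow_zero, one_smul]; exact hmem⟩
  exact (hinv.symm.val_eq hc h5).symm

include hi hJ in
theorem match_zero (n : ℕ) : ∃ M, ∀ {Ψ : PtMap J T S B}, Θ.Inverse Ψ → ∀ P, M ≤ P → ∀ s : S, Match Θ P s 0 →
    s ∈ J ^ n • (⊤ : Submodule A S) := by
  obtain ⟨N₀, hN₀⟩ := hi n
  refine ⟨max n N₀, fun {Ψ} hinv P hP s hs' => ?_⟩
  obtain ⟨r, b, hb₁, hb₂⟩ := exists_free_coords hJ S (max n N₀)
  obtain ⟨a, ha⟩ := hb₁ s
  have h1 : ∀ c ∈ T, ∃ L, c ^ L • s ∈ J ^ max n N₀ • (⊤ : Submodule A S) := fun c hc => by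
    have h2 := hinv.val_eq hc ((Match.mono hP hs') c hc)
    rw [map_zero] at h2
    obtain ⟨L, hL⟩ := loc_eq_iff.1 (h2.symm.trans (map_zero (toLoc J S (max n N₀) c)).symm)
    exact ⟨L, by simpa using hL⟩
  have : ∀ c, ∃ L, c ∈ T → c ^ L • s ∈ J ^ max n N₀ • (⊤ : Submodule A S) := fun c => by
    by_cases hc : c ∈ T
    · exact (h1 c hc).imp fun L hL _ => hL
    · exact ⟨0, fun h => absurd h hc⟩
  choose L hL using this
  have hai : ∀ i, a i ∈ J ^ n := fun i => hN₀ (T.sum L) (a i) fun c hc =>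
    Ideal.pow_le_pow_right (le_max_right n N₀) <| by
      obtain ⟨e, he⟩ := Nat.exists_eq_add_of_le (Finset.single_le_sum (fun x _ => Nat.zero_le (L x)) hc)
      refine hb₂ (fun i => c ^ T.sum L * a i) ?_ i
      have h4 : ∑ j, (c ^ T.sum L * a j) • b j = c ^ e • c ^ L c • s - c ^ T.sum L • (s - ∑ j, a j • b j) := by
        rw [smul_sub, Finset.smul_sum, smul_smul, ← pow_add, add_comm e, ← he, sub_sub_cancel]
        simp only [smul_smul]
      rw [h4]
      exact Submodule.sub_mem _ (Submodule.smul_mem _ _ (hL c hc)) (Submodule.smul_mem _ _ ha)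
  rw [← sub_add_cancel s (∑ i, a i • b i)]
  exact Submodule.add_mem _ (Submodule.smul_mono (Ideal.pow_le_pow_right (le_max_left n N₀)) le_rfl ha)
    (Submodule.sum_mem _ fun i _ => Submodule.smul_mem_smul (hai i) Submodule.mem_top)

include hs hi D hJ in
/-- The truncations of `B` are those of `S`. -/
theorem exists_truncation_hom {Ψ : PtMap J T S B} (hinv : Θ.Inverse Ψ) (n : ℕ) :
    ∃ Φ : S →ₐ[A] B ⧸ (J ^ n).map (algebraMap A B), Function.Surjective Φ ∧
      RingHom.ker Φ.toRingHom = (J ^ n).map (algebraMap A S) := by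
  obtain ⟨N, hnN, hN⟩ := match_unique (S := S) (Θ := Θ) hi D n
  choose β hβ using fun s : S => match_exists (Θ := Θ) hs hi D N s
  have hwd : ∀ {s : S} {γ : B}, Match Θ N s γ →
      Ideal.Quotient.mk ((J ^ n).map (algebraMap A B)) (β s) = Ideal.Quotient.mk _ γ := fun {s γ} h => by
    rw [Ideal.Quotient.eq]
    have := hN s _ _ (hβ s) h
    rwa [Ideal.smul_top_eq_map] at this
  let Φ : S →ₐ[A] B ⧸ (J ^ n).map (algebraMap A B) :=
    { toFun := fun s => Ideal.Quotient.mk _ (β s)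
      map_one' := by simpa using hwd (s := 1) (γ := 1) (by simpa using Match.algebraMap (Θ := Θ) N 1)
      map_mul' := fun s t => (hwd ((hβ s).mul (hβ t))).trans (map_mul _ _ _)
      map_zero' := by simpa using hwd (s := 0) (γ := 0) (by simpa using Match.algebraMap (Θ := Θ) N 0)
      map_add' := fun s t => (hwd ((hβ s).add (hβ t))).trans (map_add _ _ _)
      commutes' := fun a => hwd (Match.algebraMap N a) }
  refine ⟨Φ, fun q => ?_, le_antisymm (fun s hs' => ?_) ?_⟩
  · obtain ⟨γ, rfl⟩ := Ideal.Quotient.mk_surjective q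
    obtain ⟨s, hs'⟩ := exists_match hs hJ hinv N γ
    exact ⟨s, hwd hs'⟩
  · obtain ⟨M, hM⟩ := match_zero (S := S) (B := B) (Θ := Θ) hi hJ n
    obtain ⟨γ, hγ⟩ := match_exists (Θ := Θ) hs hi D (max N M) s
    have hγn : γ ∈ J ^ n • (⊤ : Submodule A B) := by
      rw [Ideal.smul_top_eq_map, Submodule.restrictScalars_mem, ← Ideal.Quotient.eq_zero_iff_mem,
        ← hwd (hγ.mono (le_max_left N M))]
      exact hs'
    obtain ⟨s', hs'mem, hs'match⟩ : ∃ s' ∈ J ^ n • (⊤ : Submodule A S), Match Θ (max N M) s' γ := by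
      refine Submodule.smul_induction_on hγn (fun a ha b _ => ?_) ?_
      · obtain ⟨t, ht⟩ := exists_match (Θ := Θ) hs hJ hinv (max N M) b
        exact ⟨a • t, Submodule.smul_mem_smul ha Submodule.mem_top, ht.smul a⟩
      · rintro x y ⟨s₁, h₁, h₁'⟩ ⟨s₂, h₂, h₂'⟩
        exact ⟨s₁ + s₂, Submodule.add_mem _ h₁ h₂, h₁'.add h₂'⟩
    have h0 := hM hinv _ (le_max_right N M) (s - s') (by simpa using hγ.sub hs'match)
    have h1 := Submodule.add_mem _ h0 hs'mem
    rw [sub_add_cancel, Ideal.smul_top_eq_map, Submodule.restrictScalars_mem] at h1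
    exact h1
  · rw [Ideal.map_le_iff_le_comap]
    intro a ha
    rw [Ideal.mem_comap, RingHom.mem_ker]
    show Φ (algebraMap A S a) = 0
    rw [AlgHom.commutes, IsScalarTower.algebraMap_apply A B, Ideal.Quotient.algebraMap_eq,
      Ideal.Quotient.eq_zero_iff_mem]
    exact Ideal.mem_map_of_mem _ ha

end Groth.Agent.H18Pur.Formal
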