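import Mathlib
import Groth.Agent.H18Pur.Formal.Cech

/-!
# A locally projective saturated module as the kernel of a map of free modules
-/

set_option autoImplicit false

universe u

namespace Groth.Agent.H18Pur.Formal

variable {A : Type u} [CommRing A] {B : Type u} [AddCommGroup B] [Module A B]

/-- A dual basis after inverting `c`. -/
theorem exists_dualBasis [IsNoetherianRing A] [Module.Finite A B] (c : A) (Ac : Type u) [CommRing Ac] [Algebra A Ac]
    [IsLocalization.Away c Ac] (F : Type u) [AddCommGroup F] [Module A F] [Module Ac F] [IsScalarTower A Ac F]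
    (ρ : B →ₗ[A] F) [IsLocalizedModule (Submonoid.powers c) ρ] [Module.Finite Ac F] [Module.Projective Ac F] :
    ∃ (L n : ℕ) (φ : Fin n → (B →ₗ[A] A)) (b : Fin n → B), ∀ y, ∑ k, φ k y • b k = c ^ L • y := by
  classical
  haveI : Module.FinitePresentation A B := Module.finitePresentation_of_finite A B
  obtain ⟨n, π, j, -, -, hπj⟩ := Module.Finite.exists_comp_eq_id_of_projective Ac F
  -- lift the coordinates and the images of the basis
  choose φ s hφ using fun k : Fin n =>
    Module.FinitePresentation.exists_lift_of_isLocalizedModule (Submonoid.powers c) (Algebra.linearMap A Ac)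
      ((((LinearMap.proj k).comp j).restrictScalars A).comp ρ)
  choose bt hbt using fun k : Fin n =>
    IsLocalizedModule.surj (Submonoid.powers c) ρ (π (Pi.single k 1))
  -- common denominator
  let m : Fin n → Submonoid.powers c := fun k => s k * (bt k).2
  let φ' : Fin n → (B →ₗ[A] A) := fun k => ((∏ i ∈ Finset.univ.erase k, m i : Submonoid.powers c) : A) • φ k
  have key : ∀ y, ρ (∑ k, φ' k y • (bt k).1) = ρ (((∏ i, m i : Submonoid.powers c) : A) • y) := by
    intro y
    have h1 : ρ y = ∑ k, (j (ρ y) k) • π (Pi.single k 1) := by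
      conv_lhs => rw [← LinearMap.id_apply (R := Ac) (ρ y), ← hπj, LinearMap.comp_apply,
        pi_eq_sum_univ' (j (ρ y)) (R := Ac), map_sum]
      simp [map_smul]
    rw [map_sum, map_smul ρ, h1, Finset.smul_sum]
    refine Finset.sum_congr rfl fun k _ => ?_
    have hk : algebraMap A Ac (φ k y) = algebraMap A Ac (s k : A) * j (ρ y) k := by
      have := LinearMap.congr_fun (hφ k) y
      simpa [Submonoid.smul_def, Algebra.smul_def] using this
    have hb : ρ (bt k).1 = algebraMap A Ac ((bt k).2 : A) • π (Pi.single k 1) := by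
      rw [algebraMap_smul, ← hbt k, Submonoid.smul_def]
    have hφ' : φ' k y = ((∏ i ∈ Finset.univ.erase k, m i : Submonoid.powers c) : A) * φ k y := rfl
    rw [map_smul ρ, hφ', ← algebraMap_smul Ac (((∏ i ∈ Finset.univ.erase k, m i : Submonoid.powers c) : A) * φ k y),
      hb, smul_smul, ← algebraMap_smul Ac (((∏ i, m i : Submonoid.powers c)) : A), smul_smul,
      ← Finset.mul_prod_erase _ m (Finset.mem_univ k)]
    congr 1
    rw [map_mul, hk]
    simp only [m, Submonoid.coe_mul, map_mul]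
    ring
  obtain ⟨P, hP⟩ := (∏ i, m i : Submonoid.powers c).2
  obtain ⟨gens, hgens⟩ := Module.Finite.fg_top (R := A) (M := B)
  have : ∀ g : B, ∃ q : ℕ, c ^ q • (∑ k, φ' k g • (bt k).1) = c ^ q • (((∏ i, m i : Submonoid.powers c) : A) • g) := by
    intro g
    obtain ⟨⟨_, q, rfl⟩, hq⟩ := IsLocalizedModule.exists_of_eq (S := Submonoid.powers c) (key g)
    exact ⟨q, hq⟩
  choose q hq using this
  refine ⟨gens.sum q + P, n, fun k => c ^ gens.sum q • φ' k, fun k => (bt k).1, fun y => ?_⟩
  let lhs : B →ₗ[A] B := ∑ k, (c ^ gens.sum q • φ' k).smulRight (bt k).1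
  have hl : ∀ y, lhs y = ∑ k, (c ^ gens.sum q • φ' k) y • (bt k).1 := fun y => by simp [lhs]
  rw [← hl]
  have hext : lhs = c ^ (gens.sum q + P) • LinearMap.id := by
    refine LinearMap.ext_on hgens fun g hg => ?_
    obtain ⟨d, hd⟩ := Nat.exists_eq_add_of_le (Finset.single_le_sum (fun i _ => Nat.zero_le (q i)) (Finset.mem_coe.1 hg))
    rw [hl, LinearMap.smul_apply, LinearMap.id_apply]
    simp only [LinearMap.smul_apply, smul_eq_mul, mul_smul]
    rw [← Finset.smul_sum, show c ^ (gens.sum q + P) • g = c ^ gens.sum q • (((∏ i, m i : Submonoid.powers c) : A) • g) by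
      rw [pow_add, mul_smul]; congr 2, hd, add_comm (q g) d, pow_add, mul_smul, mul_smul, hq]
  exact LinearMap.congr_fun hext y

variable {I : Ideal A} {T : Finset A} (hT : Ideal.span (T : Set A) = I)

include hT in
/-- `B` is the kernel of a map of free modules, split on the cover. -/
theorem exists_coords [IsNoetherianRing A] [Module.Finite A B] {x xB : A} (hA : Sat I A x) (hB : Sat I B xB)
    (hdual : ∀ c ∈ T, ∃ (L n : ℕ) (φ : Fin n → (B →ₗ[A] A)) (b : Fin n → B), ∀ y, ∑ k, φ k y • b k = c ^ L • y) :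
    ∃ (a : ℕ) (ι : B →ₗ[A] (Fin a → A)) (b : ℕ) (d : (Fin a → A) →ₗ[A] (Fin b → A)), Function.Injective ι ∧
      (∀ t, d t = 0 ↔ ∃ y, ι y = t) ∧
      ∀ c ∈ T, ∃ (L : ℕ) (r : (Fin a → A) →ₗ[A] B) (s : (Fin b → A) →ₗ[A] (Fin a → A)),
        ∀ t, ι (r t) + s (d t) = c ^ L • t := by
  classical
  obtain ⟨a, ψ, hψ⟩ := Module.Finite.exists_fin (R := A) (M := B →ₗ[A] A)
  let ι : B →ₗ[A] (Fin a → A) := LinearMap.pi ψ
  let Φ : (Fin a → A) →ₗ[A] (B →ₗ[A] A) := Fintype.linearCombination A ψ
  have hΦ : ∀ q y, Φ q y = ∑ i, q i * ψ i y := fun q y => by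
    simp [Φ, Fintype.linearCombination_apply]
  have hΦsurj : ∀ φ, ∃ q, Φ q = φ := by
    intro φ
    have : φ ∈ LinearMap.range Φ := by
      rw [Fintype.range_linearCombination, hψ]
      trivial
    exact this
  obtain ⟨b, rel, hrel⟩ := Module.Finite.exists_fin (R := A) (M := LinearMap.ker Φ)
  let d : (Fin a → A) →ₗ[A] (Fin b → A) := LinearMap.pi fun l => ∑ i, (rel l).1 i • LinearMap.proj i
  have hd : ∀ t l, d t l = ∑ i, (rel l).1 i * t i := fun t l => by simp [d]
  have hdι : ∀ y, d (ι y) = 0 := fun y => funext fun l => by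
    rw [hd, Pi.zero_apply]
    exact (hΦ _ y).symm.trans (by rw [show Φ (rel l).1 = 0 from (rel l).2]; rfl)
  -- the splittings
  have hsplit : ∀ c ∈ T, ∃ (L : ℕ) (r : (Fin a → A) →ₗ[A] B) (s : (Fin b → A) →ₗ[A] (Fin a → A)),
      (∀ y, r (ι y) = c ^ L • y) ∧ ∀ t, ι (r t) + s (d t) = c ^ L • t := by
    intro c hc
    obtain ⟨L, n, φ, bb, hbb⟩ := hdual c hc
    choose q hq using fun k => hΦsurj (φ k)
    let r : (Fin a → A) →ₗ[A] B := ∑ k, (∑ i, q k i • LinearMap.proj i : (Fin a → A) →ₗ[A] A).smulRight (bb k)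
    have hr : ∀ y, r (ι y) = c ^ L • y := fun y => by
      rw [← hbb y]
      simp only [r, LinearMap.sum_apply, LinearMap.smulRight_apply, LinearMap.smul_apply, LinearMap.proj_apply,
        smul_eq_mul]
      refine Finset.sum_congr rfl fun k _ => ?_
      rw [← hq k, hΦ]
      rfl
    let Efun : (Fin a → A) →ₗ[A] (Fin a → A) := c ^ L • LinearMap.id - ι.comp r
    have hE : ∀ y, Efun (ι y) = 0 := fun y => by
      simp only [Efun, LinearMap.sub_apply, LinearMap.smul_apply, LinearMap.id_apply, LinearMap.comp_apply, hr,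
        map_smul, sub_self]
    let e : Fin a → Fin a → A := fun j i => Efun (Pi.single i 1) j
    have hEe : ∀ t j, Efun t j = ∑ i, e j i * t i := fun t j => by
      conv_lhs => rw [pi_eq_sum_univ' t (R := A), map_sum]
      simp [e, map_smul, Finset.sum_apply, mul_comm]
    have hek : ∀ j, ∃ g : Fin b → A, ∑ l, g l • rel l = (⟨e j, LinearMap.ext fun y => by
        rw [hΦ, LinearMap.zero_apply]
        exact ((hEe (ι y) j).symm.trans (congrFun (hE y) j))⟩ : LinearMap.ker Φ) := fun j =>
      Submodule.mem_span_range_iff_exists_fun A |>.1 (by rw [hrel]; trivial)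
    choose g hg using hek
    let s : (Fin b → A) →ₗ[A] (Fin a → A) := LinearMap.pi fun j => ∑ l, g j l • LinearMap.proj l
    refine ⟨L, r, s, hr, fun t => funext fun j => ?_⟩
    have hgj : ∀ i, e j i = ∑ l, g j l * (rel l).1 i := fun i => by
      have h1 := congrFun (congrArg Subtype.val (hg j)) i
      simp only [Submodule.coe_sum, Submodule.coe_smul, Finset.sum_apply, Pi.smul_apply, smul_eq_mul] at h1
      exact h1.symm
    have hs : s (d t) j = Efun t j := by
      rw [hEe]
      simp only [s, LinearMap.pi_apply, LinearMap.sum_apply, LinearMap.smul_apply, LinearMap.proj_apply, smul_eq_mul,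
        hd, hgj, Finset.mul_sum, Finset.sum_mul]
      rw [Finset.sum_comm]
      exact Finset.sum_congr rfl fun i _ => Finset.sum_congr rfl fun l _ => (mul_assoc _ _ _).symm
    rw [Pi.add_apply, hs]
    simp [Efun]
  have : ∀ c, ∃ (L : ℕ) (r : (Fin a → A) →ₗ[A] B) (s : (Fin b → A) →ₗ[A] (Fin a → A)), c ∈ T →
      ((∀ y, r (ι y) = c ^ L • y) ∧ ∀ t, ι (r t) + s (d t) = c ^ L • t) := fun c => by
    by_cases hc : c ∈ T
    · obtain ⟨L, r, s, h⟩ := hsplit c hc
      exact ⟨L, r, s, fun _ => h⟩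
    · exact ⟨0, 0, 0, fun h => absurd h hc⟩
  choose L r s hrs using this
  let P := ∑ c ∈ T, L c
  have hP : ∀ c ∈ T, ∃ D, P = D + L c := fun c hc =>
    ⟨P - L c, (Nat.sub_add_cancel (Finset.single_le_sum (fun i _ => Nat.zero_le (L i)) hc)).symm⟩
  have hinj : Function.Injective ι := (injective_iff_map_eq_zero ι).2 fun y hy =>
    eq_zero_of_killed hT hB P y fun c hc => by
      obtain ⟨D, hD⟩ := hP c hc
      rw [hD, pow_add, mul_smul, ← (hrs c hc).1 y, hy, map_zero, smul_zero]
  refine ⟨a, ι, b, d, hinj, fun t => ⟨fun ht => ?_, fun ⟨y, hy⟩ => hy ▸ hdι y⟩,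
    fun c hc => ⟨L c, r c, s c, (hrs c hc).2⟩⟩
  have hrt : ∀ c ∈ T, ι (r c t) = c ^ L c • t := fun c hc => by
    have := (hrs c hc).2 t
    rwa [ht, map_zero, add_zero] at this
  choose D hD using hP
  let z : A → B := fun c => if hc : c ∈ T then c ^ D c hc • r c t else 0
  have hz : ∀ c ∈ T, ι (z c) = c ^ P • t := fun c hc => by
    simp only [z, dif_pos hc, map_smul, hrt c hc, smul_smul, ← pow_add, ← hD c hc]
  obtain ⟨y, hy⟩ := glue hT hB P z fun c hc e he => hinj (by rw [map_smul, map_smul, hz c hc, hz e he, smul_comm])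
  refine ⟨y, funext fun i => sub_eq_zero.1 (eq_zero_of_killed hT hA P (ι y i - t i) fun c hc => ?_)⟩
  have h1 : c ^ P • ι y = c ^ P • t := by rw [← map_smul, hy c hc, hz c hc]
  have h2 := congrFun h1 i
  simp only [Pi.smul_apply] at h2
  rw [smul_sub, h2, sub_self]

end Groth.Agent.H18Pur.Formal
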