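import Mathlib
import Groth.Agent.H18PBC.FormalEtale

/-!
# A finite algebra with the truncations of an étale algebra is étale
-/

set_option autoImplicit false
set_option backward.isDefEq.respectTransparency false

universe u

open CategoryTheory CategoryTheory.Limits AlgebraicGeometry TensorProduct

namespace Groth.Agent.H18Pur.Formal

theorem etale_of_truncation_homs {A B S : Type u} [CommRing A] [IsNoetherianRing A] [IsLocalRing A] [CommRing B]
    [Algebra A B] [CommRing S] [Algebra A S] [Module.Finite A B] [Algebra.Etale A S] (J : Ideal A)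
    (hJ : J ≤ IsLocalRing.maximalIdeal A)
    (h : ∀ n, ∃ Φ : S →ₐ[A] B ⧸ (J ^ n).map (algebraMap A B), Function.Surjective Φ ∧
      RingHom.ker Φ.toRingHom = (J ^ n).map (algebraMap A S)) :
    Algebra.Etale A B := by
  let c := Spec.map (CommRingCat.ofHom (algebraMap A B))
  let c' := Spec.map (CommRingCat.ofHom (algebraMap A S))
  haveI : IsFinite c := (IsFinite.SpecMap_iff _).2 (RingHom.finite_algebraMap.2 ‹_›)
  haveI : Etale c' :=
    (HasRingHomProperty.Spec_iff (P := @Etale)).2 (RingHom.etale_algebraMap.2 ‹_›)
  have key : ∀ n, Etale (pullback.snd c (CohB1.specQuot J n)) := fun n => by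
    obtain ⟨Φ, hΦs, hΦk⟩ := h (n + 1)
    let E : S ⊗[A] (A ⧸ J ^ (n + 1)) ≃ₐ[A] B ⊗[A] (A ⧸ J ^ (n + 1)) :=
      ((Algebra.TensorProduct.quotIdealMapEquivTensorQuot S (J ^ (n + 1))).symm.restrictScalars A).trans
        (((Ideal.quotientEquivAlgOfEq A hΦk.symm).trans (Ideal.quotientKerAlgEquivOfSurjective hΦs)).trans
          ((Algebra.TensorProduct.quotIdealMapEquivTensorQuot B (J ^ (n + 1))).restrictScalars A))
    have hE : E.toAlgHom.toRingHom.comp (Algebra.TensorProduct.includeRight (R := A) (A := S)).toRingHom =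
        (Algebra.TensorProduct.includeRight (R := A) (A := B) (B := A ⧸ J ^ (n + 1))).toRingHom :=
      Ideal.Quotient.ringHom_ext (RingHom.ext fun a => by
        exact AlgHom.congr_fun (Subsingleton.elim
          ((E.toAlgHom.comp (Algebra.TensorProduct.includeRight (R := A) (A := S) (B := A ⧸ J ^ (n + 1)))).comp
            (Algebra.ofId A _))
          ((Algebra.TensorProduct.includeRight (R := A) (A := B) (B := A ⧸ J ^ (n + 1))).comp (Algebra.ofId A _))) a)
    let isoB := pullbackSpecIso A B (A ⧸ J ^ (n + 1))
    let isoS := pullbackSpecIso A S (A ⧸ J ^ (n + 1))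
    have : pullback.snd c (CohB1.specQuot J n) =
        (isoB.hom ≫ (Scheme.Spec.mapIso E.toRingEquiv.toCommRingCatIso.op).hom ≫ isoS.inv) ≫
          pullback.snd c' (CohB1.specQuot J n) := by
      show pullback.snd (Spec.map (CommRingCat.ofHom (algebraMap A B)))
          (Spec.map (CommRingCat.ofHom (algebraMap A (A ⧸ J ^ (n + 1))))) = _
      rw [← pullbackSpecIso_hom_snd, Category.assoc, Category.assoc]
      congr 1
      erw [pullbackSpecIso_inv_snd]
      show _ = Spec.map _ ≫ Spec.map _
      rw [← Spec.map_comp]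
      congr 1
      exact CommRingCat.hom_ext hE.symm
    rw [this]
    infer_instance
  have : Etale c := by
    refine Groth.Agent.H18PBC.FormalEtale.etale_of_truncations J
      (hJ.trans (IsLocalRing.maximalIdeal_le_jacobson ⊥)) (𝟙 (Spec (CommRingCat.of A))) c fun n => ?_
    haveI := key n
    let t : CohB1.thick (𝟙 (Spec (CommRingCat.of A))) J n ⟶ _ := pullback.snd (𝟙 _) (CohB1.specQuot J n)
    have ht : CohB1.thickι (𝟙 (Spec (CommRingCat.of A))) J n = t ≫ CohB1.specQuot J n :=
      (Category.comp_id _).symm.trans pullback.condition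
    rw [ht]
    have hQ := (IsPullback.of_hasPullback (pullback.snd c (CohB1.specQuot J n)) t).paste_horiz
      (IsPullback.of_hasPullback c (CohB1.specQuot J n))
    rw [← hQ.isoPullback_inv_snd]
    haveI : Etale (pullback.snd (pullback.snd c (CohB1.specQuot J n)) t) :=
      MorphismProperty.pullback_snd (P := @Etale) _ t inferInstance
    infer_instance
  exact RingHom.etale_algebraMap.1 ((HasRingHomProperty.Spec_iff (P := @Etale)).1 this)

end Groth.Agent.H18Pur.Formal
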