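import Mathlib
import Groth.Agent.H18Pur.Formal.Bij
import Groth.Agent.H18Pur.Formal.Coord
import Groth.Agent.H18Pur.Formal.Truncations

/-!
# Étaleness from a formal extension
-/

set_option autoImplicit false

universe u

namespace Groth.Agent.H18Pur.Formal

variable {A : Type u} [CommRing A] [IsNoetherianRing A] [IsLocalRing A]

/-- The dual bases of an algebra étale on the cover. -/
theorem exists_dualBasis_of_etale {B : Type u} [CommRing B] [Algebra A B] [Module.Finite A B] (c : A)
    (h : Algebra.Etale A (Localization.Away (algebraMap A B c))) :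
    ∃ (L n : ℕ) (φ : Fin n → (B →ₗ[A] A)) (b : Fin n → B), ∀ y, ∑ k, φ k y • b k = c ^ L • y := by
  let Ac := Localization.Away c
  let Bc := Localization (Algebra.algebraMapSubmonoid B (Submonoid.powers c))
  haveI hB : IsLocalization.Away (algebraMap A B c) Bc := by
    show IsLocalization (Submonoid.powers (algebraMap A B c)) Bc
    rw [← Submonoid.map_powers]
    exact inferInstanceAs (IsLocalization (Algebra.algebraMapSubmonoid B (Submonoid.powers c)) Bc)
  haveI : Module.Finite Ac Bc :=
    Module.Finite.of_isLocalization A B (Rₚ := Ac) (Sₚ := Bc) (Submonoid.powers c)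
  haveI : Algebra.Etale A Bc := Algebra.Etale.of_equiv
    ((IsLocalization.algEquiv (Submonoid.powers (algebraMap A B c)) (Localization.Away (algebraMap A B c)) Bc).restrictScalars A)
  haveI : Module.Flat A Bc := inferInstance
  haveI : Module.Flat Ac Bc := (Module.flat_iff_of_isLocalization Ac (Submonoid.powers c) _).2 inferInstance
  haveI : Module.Projective Ac Bc := by
    haveI : IsNoetherianRing Ac := IsLocalization.isNoetherianRing (Submonoid.powers c) Ac inferInstance
    haveI : Module.FinitePresentation Ac Bc := Module.finitePresentation_of_finite Ac Bc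
    exact Module.Flat.projective_of_finitePresentation
  exact exists_dualBasis c Ac Bc (IsScalarTower.toAlgHom A B Bc).toLinearMap

/-- A finite algebra, étale on the cover, whose points on the cover modulo `J` are those of an étale
algebra, is étale. -/
theorem etale_of_formal {B S : Type u} [CommRing B] [Algebra A B] [Module.Finite A B] [CommRing S] [Algebra A S]
    [Algebra.Etale A S] {I : Ideal A} {T : Finset A} (hT : Ideal.span (T : Set A) = I) {x xB : A}
    (hA : Sat I A x) (hB : Sat I B xB) (J : Ideal A) (hJ : J ≤ IsLocalRing.maximalIdeal A)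
    [Module.Finite A (S ⧸ J • (⊤ : Submodule A S))] (hs : ProSurj T J) (hi : ProInj T J)
    (het : ∀ c ∈ T, Algebra.Etale A (Localization.Away (algebraMap A B c)))
    (ε : ∀ (C : Type u) [CommRing C] [Algebra A C], J.map (algebraMap A C) = ⊥ →
      (∃ c ∈ T, IsUnit (algebraMap A C c)) → (B →ₐ[A] C) ≃ (S →ₐ[A] C))
    (hε : ∀ (C C' : Type u) [CommRing C] [Algebra A C] [CommRing C'] [Algebra A C'] (G : C →ₐ[A] C')
      (h₁ : J.map (algebraMap A C) = ⊥) (h₂ : ∃ c ∈ T, IsUnit (algebraMap A C c))
      (h₁' : J.map (algebraMap A C') = ⊥) (h₂' : ∃ c ∈ T, IsUnit (algebraMap A C' c))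
      (g : B →ₐ[A] C), ε C' h₁' h₂' (G.comp g) = G.comp (ε C h₁ h₂ g)) :
    Algebra.Etale A B := by
  obtain ⟨a, ι, b, d, hinj, hex, hsplit⟩ :=
    exists_coords hT hA hB fun c hc => exists_dualBasis_of_etale c (het c hc)
  let D : Coords T B := ⟨a, b, ι, d, hinj, hex, hsplit⟩
  obtain ⟨Θ, Ψ, hinv⟩ := exists_ptMaps het ε hε
  exact etale_of_truncation_homs J hJ fun n => exists_truncation_hom hs hi D hJ hinv n

end Groth.Agent.H18Pur.Formal
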