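import Mathlib
import Groth.Prelude.Def_FEt
import Groth.Agent.H18Pur.Formal.Cech
import Groth.Agent.H18Pur.PuncturedExtend
import Groth.Agent.H18Pur.S2Sections

/-!
# The ring of sections of a cover of the punctured spectrum
-/

set_option autoImplicit false
set_option backward.isDefEq.respectTransparency false

universe u

open CategoryTheory CategoryTheory.Limits AlgebraicGeometry

namespace Groth.Agent.H18Pur.Formal

variable (A : Type u) [CommRing A] [IsNoetherianRing A] [IsLocalRing A]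

theorem mem_punctured {x : Spec (CommRingCat.of A)} {c : A} (hc : c ∈ IsLocalRing.maximalIdeal A)
    (hx : x ∈ PrimeSpectrum.basicOpen c) : x ∈ FEt.puncturedSpec A := fun h =>
  hx (by rw [show x = IsLocalRing.closedPoint A from h]; exact hc)

variable {A}

/-- The structure map of the sections. -/
noncomputable def sectionsMap (V : FEt.Cat (FEt.puncturedSpec A : Scheme.{u})) :
    CommRingCat.of A ⟶ Γ(V.left, ⊤) :=
  (Scheme.ΓSpecIso (CommRingCat.of A)).inv ≫ (V.hom ≫ (FEt.puncturedSpec A).ι).appTop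

/-- The sections form a finite saturated module. -/
theorem sections_finite_sat (hA : (2 : ℕ∞) ≤ LocCoh.depth A A) (V : FEt.Cat (FEt.puncturedSpec A : Scheme.{u})) :
    letI : Algebra A Γ(V.left, ⊤) := (sectionsMap V).hom.toAlgebra
    Module.Finite A Γ(V.left, ⊤) ∧ ∃ x, Sat (IsLocalRing.maximalIdeal A) Γ(V.left, ⊤) x := by
  letI : Algebra A Γ(V.left, ⊤) := (sectionsMap V).hom.toAlgebra
  let U := FEt.puncturedSpec A
  let g : V.left ⟶ (U : Scheme.{u}) := V.hom
  haveI : IsFinite g := V.prop.1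
  haveI : Etale g := V.prop.2
  haveI : IsNoetherianRing (CommRingCat.of A) := ‹IsNoetherianRing A›
  have hU : ∀ x : Spec (CommRingCat.of A), x ∉ U →
      (2 : ℕ∞) ≤ LocCoh.depth ((Spec (CommRingCat.of A)).presheaf.stalk x) ((Spec (CommRingCat.of A)).presheaf.stalk x) := by
    intro x hx
    obtain rfl : x = IsLocalRing.closedPoint A := not_not.1 hx
    let e : A ≃+* Localization.AtPrime (IsLocalRing.maximalIdeal A) :=
      (IsLocalization.atUnits A (IsLocalRing.maximalIdeal A).primeCompl (fun a ha => by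
        exact not_not.1 fun h => ha ((IsLocalRing.mem_maximalIdeal a).2 h))).toRingEquiv
    let e' : A ≃+* (Spec (CommRingCat.of A)).presheaf.stalk (IsLocalRing.closedPoint A) :=
      e.trans (StructureSheaf.stalkIso A (IsLocalRing.closedPoint A)).toRingEquiv
    rw [← Groth.Agent.H05EGA4.depth_eq_of_ringEquiv e']
    exact hA
  obtain ⟨hfin, I, x, hxI, hIp, hxR, hsat⟩ := sections_finite_and_saturated U hU g
    (isAffineOpen_top (Spec (CommRingCat.of A)))
  let e : A ≃+* Γ(Spec (CommRingCat.of A), ⊤) :=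
    (Scheme.ΓSpecIso (CommRingCat.of A)).symm.commRingCatIsoToRingEquiv
  have hfin' : ((g ≫ U.ι).app ⊤).hom.Finite := hfin
  refine ⟨RingHom.finite_algebraMap.1 (RingHom.Finite.comp hfin' (RingHom.Finite.of_surjective _ e.surjective)), ?_⟩
  obtain ⟨x₀, rfl⟩ := e.surjective x
  have hI : ∀ y ∈ I, e.symm y ∈ IsLocalRing.maximalIdeal A := fun y hy => by
    let q : PrimeSpectrum Γ(Spec (CommRingCat.of A), ⊤) :=
      ⟨(IsLocalRing.maximalIdeal A).comap e.symm.toRingHom, Ideal.IsPrime.comap _⟩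
    refine hIp q ?_ hy
    intro hmem
    refine hmem ?_
    rw [IsAffineOpen.fromSpec_top, Scheme.isoSpec_Spec_inv]
    refine PrimeSpectrum.ext ?_
    show ((IsLocalRing.maximalIdeal A).comap e.symm.toRingHom).comap e.toRingHom = _
    rw [Ideal.comap_comap, show e.symm.toRingHom.comp e.toRingHom = RingHom.id A from
      RingHom.ext e.symm_apply_apply, Ideal.comap_id]
    rfl
  refine ⟨x₀, sat_of_sat_one ?_ ?_ ?_⟩
  · simpa using hI _ hxI
  · exact fun a b h => hxR h
  · intro z hz
    obtain ⟨w, hw⟩ := hsat z fun y hy => by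
      obtain ⟨w, hw⟩ := hz (e.symm y) (hI y hy)
      refine ⟨w, ?_⟩
      obtain ⟨y₀, rfl⟩ := e.surjective y
      rw [RingEquiv.symm_apply_apply] at hw
      exact hw
    exact ⟨w, hw⟩

/-- The sections are étale wherever an element of the maximal ideal is inverted. -/
theorem sections_etale_away (hA : (2 : ℕ∞) ≤ LocCoh.depth A A) (V : FEt.Cat (FEt.puncturedSpec A : Scheme.{u})) :
    letI : Algebra A Γ(V.left, ⊤) := (sectionsMap V).hom.toAlgebra
    IsPullback V.hom V.left.toSpecΓ (FEt.puncturedSpec A).ι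
        (Spec.map (CommRingCat.ofHom (algebraMap A Γ(V.left, ⊤)))) ∧
      ∀ c ∈ IsLocalRing.maximalIdeal A, Algebra.Etale A (Localization.Away (algebraMap A Γ(V.left, ⊤) c)) := by
  letI : Algebra A Γ(V.left, ⊤) := (sectionsMap V).hom.toAlgebra
  let U := FEt.puncturedSpec A
  let φ := sectionsMap V
  let ρ := (Scheme.ΓSpecIso (CommRingCat.of A)).inv ≫ U.ι.appTop
  haveI : IsIso ρ := Groth.Agent.H18Pur.isIso_sections_punctured A hA
  haveI : IsNoetherianRing (CommRingCat.of A) := ‹IsNoetherianRing A›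
  haveI : CompactSpace (U : Scheme.{u}) := isCompact_iff_compactSpace.mp
    (TopologicalSpace.NoetherianSpace.isCompact (U : Set (Spec (CommRingCat.of A))))
  haveI : (U : Scheme.{u}).IsQuasiAffine := Scheme.IsQuasiAffine.of_isImmersion U.ι
  have hU : (U : Scheme.{u}).toSpecΓ ≫ Spec.map ρ = U.ι := by
    rw [Spec.map_comp, ← Scheme.toSpecΓ_naturality_assoc, toSpecΓ_SpecMap_ΓSpecIso_inv, Category.comp_id]
  have hφ : Spec.map V.hom.appTop ≫ Spec.map ρ = Spec.map φ := by
    rw [← Spec.map_comp]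
    congr 1
  let g : V.left ⟶ (U : Scheme.{u}) := V.hom
  haveI : IsFinite g := V.prop.1
  haveI : Etale g := V.prop.2
  have hpb : IsPullback g V.left.toSpecΓ U.ι (Spec.map φ) :=
    (Scheme.isPullback_toSpecΓ_toSpecΓ g).of_iso (Iso.refl _) (Iso.refl _) (Iso.refl _)
      (asIso (Spec.map ρ)) (by simp [g]; try rfl) (by simp) (by simpa using hU) (by simpa using hφ)
  refine ⟨hpb, fun c hc => ?_⟩
  let Bc := Localization.Away (algebraMap A Γ(V.left, ⊤) c)
  let j : Spec (CommRingCat.of Bc) ⟶ Spec Γ(V.left, ⊤) :=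
    Spec.map (CommRingCat.ofHom (algebraMap Γ(V.left, ⊤) Bc))
  haveI : IsOpenImmersion j := inferInstance
  haveI : IsOpenImmersion V.left.toSpecΓ := MorphismProperty.of_isPullback hpb (inferInstance : IsOpenImmersion U.ι)
  have hrange : Set.range (j ≫ Spec.map φ) ⊆ Set.range U.ι := by
    rintro _ ⟨p, rfl⟩
    rw [U.range_ι]
    refine mem_punctured A hc ?_
    show c ∉ (p.asIdeal.comap (algebraMap Γ(V.left, ⊤) Bc)).comap φ.hom
    exact fun h => p.isPrime.ne_top (Ideal.eq_top_of_isUnit_mem _ h (IsLocalization.Away.algebraMap_isUnit _))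
  let l : Spec (CommRingCat.of Bc) ⟶ V.left :=
    hpb.lift (IsOpenImmersion.lift U.ι (j ≫ Spec.map φ) hrange) j (IsOpenImmersion.lift_fac _ _ _)
  have hl : l ≫ V.left.toSpecΓ = j := hpb.lift_snd _ _ _
  haveI : IsOpenImmersion (l ≫ V.left.toSpecΓ) := by rw [hl]; infer_instance
  haveI : IsOpenImmersion l := IsOpenImmersion.of_comp l V.left.toSpecΓ
  have hcomp : j ≫ Spec.map φ = l ≫ g ≫ U.ι := by rw [← hl, Category.assoc, hpb.w]
  have het : Etale (j ≫ Spec.map φ) := by rw [hcomp]; infer_instance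
  rw [← Spec.map_comp] at het
  have h1 := (HasRingHomProperty.Spec_iff (P := @Etale)).1 het
  exact RingHom.etale_algebraMap.1 h1

end Groth.Agent.H18Pur.Formal
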