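import Mathlib
import Groth.Prelude.Def_FEt
import Groth.Agent.H9Hens.EtaleQuotLift
import Groth.Agent.H18Pur.Formal.Etale
import Groth.Agent.H18Pur.Formal.Sections

/-!
# Extension of a cover of the punctured spectrum from an extension modulo `J`
-/

set_option autoImplicit false
set_option backward.isDefEq.respectTransparency false

universe u

open CategoryTheory CategoryTheory.Limits AlgebraicGeometry TensorProduct

namespace Groth.Agent.H18Pur.Formal

/-- Two schemes with the same restriction along a monomorphism have the same points there. -/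
theorem exists_points_equiv {X U₀ Y Y' P : Scheme.{u}} {b : Y ⟶ X} {b' : Y' ⟶ X} {j : U₀ ⟶ X} [Mono j]
    {κ : P ⟶ Y} {κ' : P ⟶ Y'} {π : P ⟶ U₀} (h : IsPullback κ π b j) (h' : IsPullback κ' π b' j) :
    ∃ ε : ∀ (Z : Scheme.{u}) (z : Z ⟶ X), (∃ w, w ≫ j = z) → {g : Z ⟶ Y // g ≫ b = z} ≃ {g : Z ⟶ Y' // g ≫ b' = z},
      ∀ (Z Z' : Scheme.{u}) (k : Z' ⟶ Z) (z : Z ⟶ X) (z' : Z' ⟶ X) (_ : k ≫ z = z') (hz : ∃ w, w ≫ j = z)
        (hz' : ∃ w, w ≫ j = z') (g : {g : Z ⟶ Y // g ≫ b = z}) (g' : {g : Z' ⟶ Y // g ≫ b = z'}),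
        g'.1 = k ≫ g.1 → (ε Z' z' hz' g').1 = k ≫ (ε Z z hz g).1 := by
  refine ⟨fun Z z hz =>
    { toFun := fun g => ⟨h.lift g.1 hz.choose (by rw [g.2, hz.choose_spec]) ≫ κ', by
        rw [Category.assoc, h'.w, h.lift_snd_assoc, hz.choose_spec]⟩
      invFun := fun g => ⟨h'.lift g.1 hz.choose (by rw [g.2, hz.choose_spec]) ≫ κ, by
        rw [Category.assoc, h.w, h'.lift_snd_assoc, hz.choose_spec]⟩
      left_inv := fun g => Subtype.ext ?_
      right_inv := fun g => Subtype.ext ?_ }, fun Z Z' k z z' hkz hz hz' g g' hgg => ?_⟩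
  · show h'.lift _ _ _ ≫ κ = g.1
    rw [show h'.lift _ hz.choose _ = h.lift g.1 hz.choose (by rw [g.2, hz.choose_spec]) from
      h'.hom_ext (by rw [h'.lift_fst]) (by rw [h'.lift_snd, h.lift_snd]), h.lift_fst]
  · show h.lift _ _ _ ≫ κ' = g.1
    rw [show h.lift _ hz.choose _ = h'.lift g.1 hz.choose (by rw [g.2, hz.choose_spec]) from
      h.hom_ext (by rw [h.lift_fst]) (by rw [h.lift_snd, h'.lift_snd]), h'.lift_fst]
  · show h.lift _ _ _ ≫ κ' = k ≫ h.lift _ _ _ ≫ κ'
    refine (congrArg (· ≫ κ') (h.hom_ext ?_ ?_)).trans (Category.assoc k _ κ')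
    · exact (h.lift_fst _ _ _).trans (hgg.trans ((congrArg (k ≫ ·) (h.lift_fst _ _ _).symm).trans (Category.assoc _ _ _).symm))
    · refine (h.lift_snd _ _ _).trans (((cancel_mono j).1 ?_).trans (Category.assoc _ _ _).symm)
      rw [hz'.choose_spec, h.lift_snd, Category.assoc, hz.choose_spec, hkz]

/-- Algebra maps are points over the base. -/
noncomputable def pointsEquiv (A R C : Type u) [CommRing A] [CommRing R] [Algebra A R] [CommRing C] [Algebra A C] :
    (R →ₐ[A] C) ≃ {g : Spec (CommRingCat.of C) ⟶ Spec (CommRingCat.of R) //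
      g ≫ Spec.map (CommRingCat.ofHom (algebraMap A R)) = Spec.map (CommRingCat.ofHom (algebraMap A C))} where
  toFun f := ⟨Spec.map (CommRingCat.ofHom f.toRingHom), by
    rw [← Spec.map_comp, ← CommRingCat.ofHom_comp]
    exact congrArg (fun r => Spec.map (CommRingCat.ofHom r)) f.comp_algebraMap⟩
  invFun g :=
    { (Spec.preimage g.1).hom with
      commutes' := fun a => by
        have h := g.2
        rw [← Spec.map_preimage g.1, ← Spec.map_comp] at h
        exact congr($(Spec.map_injective h) a) }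
  left_inv f := AlgHom.ext fun a => by
    show (Spec.preimage (Spec.map (CommRingCat.ofHom f.toRingHom))).hom a = f a
    rw [Spec.preimage_map]
    rfl
  right_inv g := Subtype.ext (by
    show Spec.map _ = g.1
    conv_rhs => rw [← Spec.map_preimage g.1]
    congr 1)

/-- An affine cover of `Spec (A/J)` comes from an étale algebra. -/
theorem exists_etale_model {A : Type u} [CommRing A] (J : Ideal A) (Y₀ : FEt.Cat (Spec (CommRingCat.of (A ⧸ J)))) :
    ∃ (S : Type u) (_ : CommRing S) (_ : Algebra A S), Algebra.Etale A S ∧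
      Module.Finite A (S ⧸ J • (⊤ : Submodule A S)) ∧
      ∃ a : Y₀.left ⟶ Spec (CommRingCat.of S), IsPullback a Y₀.hom
        (Spec.map (CommRingCat.ofHom (algebraMap A S))) (Spec.map (CommRingCat.ofHom (Ideal.Quotient.mk J))) := by
  let y : Y₀.left ⟶ Spec (CommRingCat.of (A ⧸ J)) := Y₀.hom
  haveI : IsFinite y := Y₀.prop.1
  haveI : Etale y := Y₀.prop.2
  haveI : IsAffine Y₀.left := isAffine_of_isAffineHom y
  let ψ : CommRingCat.of (A ⧸ J) ⟶ Γ(Y₀.left, ⊤) := (Scheme.ΓSpecIso _).inv ≫ y.appTop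
  have hψ : y = Y₀.left.isoSpec.hom ≫ Spec.map ψ := by
    rw [Scheme.isoSpec_hom, Spec.map_comp, ← Scheme.toSpecΓ_naturality_assoc, toSpecΓ_SpecMap_ΓSpecIso_inv,
      Category.comp_id]
  letI : Algebra (A ⧸ J) Γ(Y₀.left, ⊤) := ψ.hom.toAlgebra
  haveI : Etale (Spec.map ψ) := by
    rw [← MorphismProperty.cancel_left_of_respectsIso @Etale Y₀.left.isoSpec.hom, ← hψ]; infer_instance
  haveI : IsFinite (Spec.map ψ) := by
    rw [← MorphismProperty.cancel_left_of_respectsIso @IsFinite Y₀.left.isoSpec.hom, ← hψ]; infer_instance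
  haveI : Algebra.Etale (A ⧸ J) Γ(Y₀.left, ⊤) :=
    RingHom.etale_algebraMap.1 ((HasRingHomProperty.Spec_iff (P := @Etale)).1 ‹_›)
  haveI : Module.Finite (A ⧸ J) Γ(Y₀.left, ⊤) :=
    RingHom.finite_algebraMap.1 ((IsFinite.SpecMap_iff ψ).1 ‹_›)
  obtain ⟨S, _, _, hS, ⟨e⟩⟩ := Groth.Agent.H9Hens.exists_etale_lift_quotient A J Γ(Y₀.left, ⊤)
  refine ⟨S, ‹_›, ‹_›, hS, ?_, ?_⟩
  · haveI : Module.Finite (A ⧸ J) ((A ⧸ J) ⊗[A] S) := Module.Finite.equiv e.symm.toLinearEquiv
    haveI : Module.Finite A ((A ⧸ J) ⊗[A] S) := Module.Finite.trans (A ⧸ J) _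
    exact Module.Finite.equiv (TensorProduct.quotTensorEquivQuotSMul S J)
  · let q := Spec.map (CommRingCat.ofHom (algebraMap A (A ⧸ J)))
    let s := Spec.map (CommRingCat.ofHom (algebraMap A S))
    let i : Y₀.left ≅ pullback q s := Y₀.left.isoSpec ≪≫
      Scheme.Spec.mapIso e.toRingEquiv.toCommRingCatIso.op ≪≫ (pullbackSpecIso A (A ⧸ J) S).symm
    have hi : i.hom ≫ pullback.fst q s = y := by
      simp only [i, Iso.trans_hom, Iso.symm_hom, Category.assoc]
      erw [pullbackSpecIso_inv_fst]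
      rw [hψ]
      congr 1
      show Spec.map _ ≫ Spec.map _ = _
      rw [← Spec.map_comp]
      congr 1
      exact CommRingCat.hom_ext (RingHom.ext fun a => e.commutes a)
    refine ⟨i.hom ≫ pullback.snd q s, ?_⟩
    show IsPullback (i.hom ≫ pullback.snd q s) y s q
    exact IsPullback.of_iso_pullback (CommSq.mk (by
      rw [← hi, Category.assoc, Category.assoc]
      exact congrArg (i.hom ≫ ·) pullback.condition.symm)) (i ≪≫ pullbackSymmetry q s)
      (by rw [Iso.trans_hom, Category.assoc, pullbackSymmetry_hom_comp_fst])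
      (by rw [Iso.trans_hom, Category.assoc, pullbackSymmetry_hom_comp_snd, hi])

/-- A cover of the punctured spectrum extends if it does so modulo `J`, given formal gluing. -/
theorem exists_extension {A : Type u} [CommRing A] [IsNoetherianRing A] [IsLocalRing A]
    (hA : (2 : ℕ∞) ≤ LocCoh.depth A A) (J : Ideal A) (hJ : J ≤ IsLocalRing.maximalIdeal A) (T : Finset A)
    (hT : Ideal.span (T : Set A) = IsLocalRing.maximalIdeal A) {x : A}
    (hx : Sat (IsLocalRing.maximalIdeal A) A x) (hs : ProSurj T J) (hi : ProInj T J)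
    (V : FEt.Cat (FEt.puncturedSpec A : Scheme.{u}))
    (hV : ∃ Y₀ : FEt.Cat (Spec (CommRingCat.of (A ⧸ J))),
      Nonempty ((FEt.restrict (pullback.snd (FEt.puncturedSpec A).ι
        (Spec.map (CommRingCat.ofHom (Ideal.Quotient.mk J))))).obj Y₀ ≅
        (FEt.restrict (pullback.fst (FEt.puncturedSpec A).ι
        (Spec.map (CommRingCat.ofHom (Ideal.Quotient.mk J))))).obj V)) :
    ∃ Y : FEt.Cat (Spec (CommRingCat.of A)),
      Nonempty ((FEt.restrict (FEt.puncturedSpec A).ι).obj Y ≅ V) := by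
  obtain ⟨Y₀, ⟨e⟩⟩ := hV
  letI : Algebra A Γ(V.left, ⊤) := (sectionsMap V).hom.toAlgebra
  obtain ⟨hfin, xB, hxB⟩ := sections_finite_sat hA V
  obtain ⟨hpb, het⟩ := sections_etale_away hA V
  obtain ⟨S, _, _, hS, hSfin, a, ha⟩ := exists_etale_model J Y₀
  let ι := (FEt.puncturedSpec A).ι
  let q := Spec.map (CommRingCat.ofHom (Ideal.Quotient.mk J))
  let j : pullback ι q ⟶ Spec (CommRingCat.of A) := pullback.fst ι q ≫ ι
  haveI : IsClosedImmersion q := IsClosedImmersion.spec_of_surjective _ Ideal.Quotient.mk_surjective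
  haveI : Mono j := inferInstance
  -- the common restriction
  have hP := (IsPullback.of_hasPullback V.hom (pullback.fst ι q)).paste_horiz hpb.flip
  have hP' := (IsPullback.of_hasPullback Y₀.hom (pullback.snd ι q)).paste_horiz ha
  have ej : pullback.snd ι q ≫ q = j := pullback.condition.symm
  rw [ej] at hP'
  let e' := (MorphismProperty.Over.forget _ _ _ ⋙ Over.forget _).mapIso e
  have he' : e'.hom ≫ pullback.snd V.hom (pullback.fst ι q) = pullback.snd Y₀.hom (pullback.snd ι q) :=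
    MorphismProperty.Over.w e.hom
  have hP'' := IsPullback.of_iso hP' e' (Iso.refl _) (Iso.refl _) (Iso.refl _)
    (fst' := e'.inv ≫ pullback.fst Y₀.hom (pullback.snd ι q) ≫ a) (snd' := pullback.snd V.hom (pullback.fst ι q))
    (f' := Spec.map (CommRingCat.ofHom (algebraMap A S))) (g' := j)
    (by rw [Iso.refl_hom, Category.comp_id, Iso.hom_inv_id_assoc]) (by rw [Iso.refl_hom, Category.comp_id, he'])
    (by simp) (by simp)
  obtain ⟨ε₀, hε₀⟩ := exists_points_equiv hP hP''
  have hz : ∀ (C : Type u) [CommRing C] [Algebra A C], J.map (algebraMap A C) = ⊥ →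
      (∃ c ∈ T, IsUnit (algebraMap A C c)) → ∃ w, w ≫ j = Spec.map (CommRingCat.ofHom (algebraMap A C)) := by
    intro C _ _ hC ⟨c, hc, hu⟩
    let z := Spec.map (CommRingCat.ofHom (algebraMap A C))
    have hr : Set.range z ⊆ Set.range ι := by
      rintro _ ⟨p, rfl⟩
      rw [Scheme.Opens.range_ι]
      exact mem_punctured A (mem_of_mem hT hc) fun h => p.isPrime.ne_top (Ideal.eq_top_of_isUnit_mem _ h hu)
    let z₀ := Spec.map (CommRingCat.ofHom (Ideal.Quotient.lift J (algebraMap A C) fun t ht =>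
      (Ideal.mem_bot).1 (hC.le (Ideal.mem_map_of_mem _ ht))))
    have hz₀ : z₀ ≫ q = z := by
      rw [← Spec.map_comp, ← CommRingCat.ofHom_comp]
      rfl
    exact ⟨pullback.lift (IsOpenImmersion.lift ι z hr) z₀ (by rw [IsOpenImmersion.lift_fac, hz₀]),
      by rw [pullback.lift_fst_assoc, IsOpenImmersion.lift_fac]⟩
  let ε : ∀ (C : Type u) [CommRing C] [Algebra A C], J.map (algebraMap A C) = ⊥ →
      (∃ c ∈ T, IsUnit (algebraMap A C c)) → (Γ(V.left, ⊤) →ₐ[A] C) ≃ (S →ₐ[A] C) := fun C _ _ h₁ h₂ =>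
    (pointsEquiv A Γ(V.left, ⊤) C).trans ((ε₀ _ _ (hz C h₁ h₂)).trans (pointsEquiv A S C).symm)
  haveI := hfin
  haveI := hS
  haveI := hSfin
  have hB : Algebra.Etale A Γ(V.left, ⊤) := etale_of_formal hT hx hxB J hJ hs hi
    (fun c hc => het c (mem_of_mem hT hc)) ε (fun C C' _ _ _ _ G h₁ h₂ h₁' h₂' g => by
      refine (pointsEquiv A S C').injective (Subtype.ext ?_)
      simp only [ε, Equiv.trans_apply, Equiv.apply_symm_apply]
      let k := Spec.map (CommRingCat.ofHom G.toRingHom)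
      have hk : k ≫ Spec.map (CommRingCat.ofHom (algebraMap A C)) = Spec.map (CommRingCat.ofHom (algebraMap A C')) := by
        rw [← Spec.map_comp, ← CommRingCat.ofHom_comp]
        exact congrArg (fun r => Spec.map (CommRingCat.ofHom r)) G.comp_algebraMap
      have hG : ∀ {R : Type u} [CommRing R] [Algebra A R] (f : R →ₐ[A] C),
          ((pointsEquiv A R C') (G.comp f)).1 = k ≫ ((pointsEquiv A R C) f).1 := fun f => by
        show Spec.map _ = Spec.map _ ≫ Spec.map _
        rw [← Spec.map_comp]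
        rfl
      rw [hG, Equiv.apply_symm_apply]
      exact hε₀ _ _ k _ _ hk (hz C h₁ h₂) (hz C' h₁' h₂') _ _ (hG g))
  exact Groth.Agent.H18Pur.exists_extension_of_etale_sections A hA V (RingHom.finite_algebraMap.2 hfin)
    (RingHom.etale_algebraMap.2 hB)

end Groth.Agent.H18Pur.Formal
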