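import Mathlib
import Groth.Prelude.Def_FEt
import Groth.Agent.H23Para.Lift.Colon
import Groth.Agent.H18Pur.Formal.Extend
import Groth.Agent.H18Pur.Formal.Depth

/-!
# Purity from purity of a quotient with free graded pieces
-/

set_option autoImplicit false
set_option backward.isDefEq.respectTransparency false

universe u

open CategoryTheory CategoryTheory.Limits AlgebraicGeometry
open Groth.Agent.H23Para.Lift

namespace Groth.Agent.H18Pur.Formal

/-- Graded bases along the fibre of a flat local homomorphism. -/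
theorem nonempty_grBasis_of_flat {A B : Type u} [CommRing A] [CommRing B] [IsLocalRing A] [IsNoetherianRing A]
    [Algebra A B] [Module.Flat A B] (n : ℕ) :
    Nonempty (GrBasis ((IsLocalRing.maximalIdeal A).map (algebraMap A B)) n) := by
  classical
  let φ := algebraMap A B
  let J := (IsLocalRing.maximalIdeal A).map φ
  have hJn : ∀ n, J ^ n = (IsLocalRing.maximalIdeal A ^ n).map φ := fun n => (Ideal.map_pow _ _ n).symm
  haveI : Module.Free (A ⧸ IsLocalRing.maximalIdeal A) (↥(IsLocalRing.maximalIdeal A ^ n) ⧸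
      (IsLocalRing.maximalIdeal A • (⊤ : Submodule A ↥(IsLocalRing.maximalIdeal A ^ n)))) :=
    letI := Ideal.Quotient.field (IsLocalRing.maximalIdeal A)
    Module.Free.of_divisionRing _ _
  obtain ⟨G⟩ := Groth.Agent.H23Para.Lift.nonempty_grBasis
    (IsLocalRing.maximalIdeal.isMaximal A).ne_top n ‹_›
  refine ⟨⟨G.r, fun l => φ (G.el l), fun l => hJn n ▸ Ideal.mem_map_of_mem φ (G.el_mem l), fun v hv => ?_,
    fun c hc l => ?_⟩⟩
  · rw [hJn] at hv
    induction hv using Submodule.span_induction with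
    | mem v hv =>
      obtain ⟨a, ha, rfl⟩ := hv
      obtain ⟨c, hc⟩ := G.span a ha
      refine ⟨fun l => φ (c l), ?_⟩
      have := Ideal.mem_map_of_mem φ hc
      rw [map_sub, map_sum] at this
      simpa [J, φ, ← Ideal.map_pow, map_mul] using this
    | zero => exact ⟨0, by simp⟩
    | add v w _ _ hv hw =>
      obtain ⟨c, hc⟩ := hv
      obtain ⟨c', hc'⟩ := hw
      refine ⟨c + c', ?_⟩
      convert add_mem hc hc' using 1
      simp only [Pi.add_apply, add_mul, Finset.sum_add_distrib]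
      abel
    | smul t v _ hv =>
      obtain ⟨c, hc⟩ := hv
      refine ⟨fun l => t * c l, ?_⟩
      convert Ideal.mul_mem_left _ t hc using 1
      rw [mul_sub, Finset.mul_sum, smul_eq_mul]
      simp only [mul_assoc]
  · obtain ⟨S, hS⟩ := IsNoetherian.noetherian (IsLocalRing.maximalIdeal A ^ (n + 1))
    rw [hJn, ← hS, Ideal.submodule_span_eq, Ideal.map_span] at hc
    change _ ∈ Submodule.span B (φ '' (S : Set A)) at hc
    rw [← Finset.coe_image, Submodule.mem_span_finset] at hc
    obtain ⟨d, -, hd'⟩ := hc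
    choose s hsS hs using fun i : ↥(S.image φ) => Finset.mem_image.mp i.2
    have hrel : ∑ i : Fin G.r ⊕ ↥(S.image φ), Sum.elim G.el (fun i => - s i) i •
        Sum.elim c (fun i => d i.1) i = 0 := by
      rw [Fintype.sum_sum_type]
      simp only [Sum.elim_inl, Sum.elim_inr, Algebra.smul_def, map_neg, neg_mul, Finset.sum_neg_distrib]
      rw [← sub_eq_add_neg, sub_eq_zero]
      refine Eq.trans ?_ ((hd'.symm.trans (Finset.sum_coe_sort _ (fun i => d i • i)).symm).trans ?_)
      · exact Finset.sum_congr rfl fun l _ => mul_comm _ _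
      · exact Finset.sum_congr rfl fun i _ => by
          show d i.1 * i.1 = φ (s i) * d i.1
          rw [hs i, mul_comm]
    obtain ⟨k, a, y, hx, ha⟩ := Module.Flat.isTrivialRelation_of_sum_smul_eq_zero (R := A) (M := B)
      (f := Sum.elim G.el (fun i => - s i)) (x := Sum.elim c (fun i => d i.1)) hrel
    have hm : ∀ j l, a (Sum.inl l) j ∈ IsLocalRing.maximalIdeal A := fun j l => by
      refine G.indep (fun l => a (Sum.inl l) j) ?_ l
      have h := ha j
      rw [Fintype.sum_sum_type] at h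
      simp only [Sum.elim_inl, Sum.elim_inr, neg_mul, Finset.sum_neg_distrib, ← sub_eq_add_neg, sub_eq_zero] at h
      rw [Finset.sum_congr rfl fun l _ => mul_comm (a (Sum.inl l) j) (G.el l), h]
      exact Submodule.sum_mem _ fun i _ => Ideal.mul_mem_right _ _ (hS ▸ Submodule.subset_span (hsS i))
    have h := hx (Sum.inl l)
    simp only [Sum.elim_inl] at h
    rw [h]
    exact Submodule.sum_mem _ fun j _ => by
      rw [Algebra.smul_def]
      exact Ideal.mul_mem_right _ _ (Ideal.mem_map_of_mem φ (hm j l))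

/-- The punctured spectrum of a quotient. -/
theorem exists_isPullback_punctured (A : Type u) [CommRing A] [IsLocalRing A] (J : Ideal A) [IsLocalRing (A ⧸ J)] :
    ∃ k : (FEt.puncturedSpec (A ⧸ J) : Scheme.{u}) ⟶ (FEt.puncturedSpec A : Scheme.{u}),
      IsPullback k (FEt.puncturedSpec (A ⧸ J)).ι (FEt.puncturedSpec A).ι
        (Spec.map (CommRingCat.ofHom (Ideal.Quotient.mk J))) := by
  let q := Spec.map (CommRingCat.ofHom (Ideal.Quotient.mk J))
  have hq : ∀ p : Spec (CommRingCat.of (A ⧸ J)), q p = IsLocalRing.closedPoint A ↔ p = IsLocalRing.closedPoint (A ⧸ J) := by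
    intro p
    refine ⟨fun h => ?_, fun h => ?_⟩
    · have h' : p.asIdeal.comap (Ideal.Quotient.mk J) = IsLocalRing.maximalIdeal A := congrArg PrimeSpectrum.asIdeal h
      refine PrimeSpectrum.ext ?_
      rw [← Ideal.map_comap_of_surjective _ Ideal.Quotient.mk_surjective p.asIdeal, h',
        IsLocalRing.map_maximalIdeal_of_surjective _ Ideal.Quotient.mk_surjective]
      rfl
    · subst h
      haveI : IsLocalHom (Ideal.Quotient.mk J) := .of_surjective _ Ideal.Quotient.mk_surjective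
      exact IsLocalRing.comap_closedPoint (Ideal.Quotient.mk J)
  have hpre : q ⁻¹ᵁ (FEt.puncturedSpec A).ι.opensRange = (FEt.puncturedSpec (A ⧸ J)).ι.opensRange := by
    rw [Scheme.Opens.opensRange_ι, Scheme.Opens.opensRange_ι]
    exact TopologicalSpace.Opens.ext (Set.ext fun p => not_congr (hq p))
  have hr : Set.range ((FEt.puncturedSpec (A ⧸ J)).ι ≫ q) ⊆ Set.range (FEt.puncturedSpec A).ι := by
    rintro _ ⟨p, rfl⟩
    rw [Scheme.Opens.range_ι]
    exact fun h => p.2 ((hq _).1 h)
  refine ⟨IsOpenImmersion.lift _ _ hr, IsOpenImmersion.isPullback _ _ _ q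
    (IsOpenImmersion.lift_fac _ _ hr).symm hpre⟩

/-- Purity from the graded pieces of an ideal. -/
theorem purityHolds_of_grBasis (A : Type u) [CommRing A] [IsLocalRing A] [IsNoetherianRing A] (J : Ideal A)
    (hJ : J ≠ ⊤) [IsLocalRing (A ⧸ J)] (hd : (3 : ℕ∞) ≤ LocCoh.depth (A ⧸ J) (A ⧸ J)) (B : ∀ n, GrBasis J n)
    (h0 : FEt.PurityHolds (A ⧸ J)) : (3 : ℕ∞) ≤ LocCoh.depth A A ∧ FEt.PurityHolds A := by
  obtain ⟨a, b, c, hma, hmb, hmc, ha, hb, hc⟩ := exists_colon hJ hd
  have h3 := three_le_depth hJ ⟨hma, hmb, hmc⟩ B ha hb hc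
  have h2 : (2 : ℕ∞) ≤ LocCoh.depth A A := le_trans (by decide) h3
  refine ⟨h3, ⟨fun V => ?_⟩⟩
  obtain ⟨T, hT⟩ := (IsNoetherian.noetherian (IsLocalRing.maximalIdeal A) : (IsLocalRing.maximalIdeal A).FG)
  obtain ⟨x, hx⟩ := exists_sat_of_two_le_depth h2
  have hsat : ∀ n, ∃ y, Sat (IsLocalRing.maximalIdeal A) (A ⧸ J ^ n) y := fun n =>
    ⟨a, sat_of_pair hma hmb (fun p p' hp => by
      obtain ⟨p, rfl⟩ := Ideal.Quotient.mk_surjective p
      obtain ⟨p', rfl⟩ := Ideal.Quotient.mk_surjective p'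
      refine Ideal.Quotient.eq.2 (mem_pow_of_mul_mem J B ha n _ ?_)
      rw [mul_sub]
      exact Ideal.Quotient.eq.1 hp) fun z w h => by
      obtain ⟨z, rfl⟩ := Ideal.Quotient.mk_surjective z
      obtain ⟨w, rfl⟩ := Ideal.Quotient.mk_surjective w
      obtain ⟨t₁, t₂, ht⟩ := colon_pow₂ J B ha hb n z w 0 (by simpa using Ideal.Quotient.eq.1 h)
      exact ⟨Ideal.Quotient.mk _ t₁, Ideal.Quotient.eq.2 (by simpa using ht)⟩⟩
  obtain ⟨hs, hi⟩ := pro_of_sat_quotient hT J hsat
  -- the extension modulo `J`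
  obtain ⟨k, hk⟩ := exists_isPullback_punctured A J
  obtain ⟨Y₀, ⟨e⟩⟩ := h0.mem_essImage ((FEt.restrict k).obj V)
  let i := hk.isoPullback
  let q := Spec.map (CommRingCat.ofHom (Ideal.Quotient.mk J))
  have h₁ : pullback.fst (FEt.puncturedSpec A).ι q = i.inv ≫ k := hk.isoPullback_inv_fst.symm
  have h₂ : pullback.snd (FEt.puncturedSpec A).ι q = i.inv ≫ (FEt.puncturedSpec (A ⧸ J)).ι :=
    hk.isoPullback_inv_snd.symm
  obtain ⟨Y, hY⟩ := exists_extension h2 J (IsLocalRing.le_maximalIdeal hJ) T hT hx hs hi V ⟨Y₀, ⟨by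
    rw [show pullback.fst (FEt.puncturedSpec A).ι (Spec.map (CommRingCat.ofHom (Ideal.Quotient.mk J))) = _ from h₁,
      show pullback.snd (FEt.puncturedSpec A).ι (Spec.map (CommRingCat.ofHom (Ideal.Quotient.mk J))) = _ from h₂]
    exact (MorphismProperty.Over.pullbackComp _ _).app Y₀ ≪≫ (FEt.restrict i.inv).mapIso e ≪≫
      ((MorphismProperty.Over.pullbackComp _ _).app V).symm⟩⟩
  exact ⟨Y, hY⟩

end Groth.Agent.H18Pur.Formal
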