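import Mathlib
import Groth.Agent.H18Pur.Formal.Bij
import Groth.Agent.H9Hens.Pair

/-!
# Idempotents from the cover modulo `J`
-/

set_option autoImplicit false

universe u

namespace Groth.Agent.H18Pur.Formal

variable {A : Type u} [CommRing A]

/-- The algebra map given by an idempotent. -/
noncomputable def idemHom {C : Type u} [CommRing C] [Algebra A C] (e : C) (he : IsIdempotentElem e) : A × A →ₐ[A] C :=
  AlgHom.ofLinearMap
    { toFun := fun p => algebraMap A C p.1 * e + algebraMap A C p.2 * (1 - e)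
      map_add' := fun p q => by simp only [Prod.fst_add, Prod.snd_add, map_add]; ring
      map_smul' := fun a p => by
        simp only [Prod.smul_fst, Prod.smul_snd, smul_eq_mul, map_mul, RingHom.id_apply]
        rw [Algebra.smul_def]
        ring }
    (by simp)
    (fun p q => by
      simp only [LinearMap.coe_mk, AddHom.coe_mk, Prod.fst_mul, Prod.snd_mul, map_mul]
      linear_combination (-(algebraMap A C p.1 * algebraMap A C q.1) - algebraMap A C p.2 * algebraMap A C q.2 +
        algebraMap A C p.1 * algebraMap A C q.2 + algebraMap A C p.2 * algebraMap A C q.1) * he.eq)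

theorem idemHom_apply {C : Type u} [CommRing C] [Algebra A C] (e : C) (he : IsIdempotentElem e) :
    idemHom (A := A) e he (1, 0) = e := by simp [idemHom]

theorem idemHom_comp {C C' : Type u} [CommRing C] [Algebra A C] [CommRing C'] [Algebra A C'] (G : C →ₐ[A] C') (e : C)
    (he : IsIdempotentElem e) : G.comp (idemHom e he) = idemHom (G e) (he.map G) :=
  AlgHom.ext fun p => by simp [idemHom]

/-- A natural family of idempotents on the cover modulo `J` comes from an idempotent of `B`. -/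
theorem exists_idem [IsNoetherianRing A] [HenselianLocalRing A] {J : Ideal A} (hJ : J ≤ IsLocalRing.maximalIdeal A)
    {T : Finset A} {B : Type u} [CommRing B] [Algebra A B] [Module.Finite A B] (hs : ProSurj T J) (hi : ProInj T J)
    (D : Coords T B)
    (E : ∀ (C : Type u) [CommRing C] [Algebra A C], J.map (algebraMap A C) = ⊥ →
      (∃ c ∈ T, IsUnit (algebraMap A C c)) → (B →ₐ[A] C) → C)
    (hE : ∀ (C : Type u) [CommRing C] [Algebra A C] (h₁ : J.map (algebraMap A C) = ⊥)
      (h₂ : ∃ c ∈ T, IsUnit (algebraMap A C c)) (g : B →ₐ[A] C), IsIdempotentElem (E C h₁ h₂ g))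
    (hnat : ∀ (C C' : Type u) [CommRing C] [Algebra A C] [CommRing C'] [Algebra A C'] (G : C →ₐ[A] C')
      (h₁ : J.map (algebraMap A C) = ⊥) (h₂ : ∃ c ∈ T, IsUnit (algebraMap A C c))
      (h₁' : J.map (algebraMap A C') = ⊥) (h₂' : ∃ c ∈ T, IsUnit (algebraMap A C' c))
      (g : B →ₐ[A] C), E C' h₁' h₂' (G.comp g) = G (E C h₁ h₂ g)) :
    ∃ e : B, IsIdempotentElem e ∧ ∀ (C : Type u) [CommRing C] [Algebra A C] (h₁ : J.map (algebraMap A C) = ⊥)
      (h₂ : ∃ c ∈ T, IsUnit (algebraMap A C c)) (g : B →ₐ[A] C), g e = E C h₁ h₂ g := by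
  classical
  let π : ∀ (C : Type u) [CommRing C] [Algebra A C], C →ₐ[A] C ⧸ J.map (algebraMap A C) :=
    fun C _ _ => Ideal.Quotient.mkₐ A _
  have hq : ∀ (C : Type u) [CommRing C] [Algebra A C],
      J.map (algebraMap A (C ⧸ J.map (algebraMap A C))) = ⊥ := fun C _ _ => by
    simpa using map_quot_eq_bot (J := J) (C := C)
  have hu : ∀ (C : Type u) [CommRing C] [Algebra A C], (∃ c ∈ T, IsUnit (algebraMap A C c)) →
      ∃ c ∈ T, IsUnit (algebraMap A (C ⧸ J.map (algebraMap A C)) c) := fun C _ _ ⟨c, hc, h⟩ =>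
    ⟨c, hc, by have := h.map (π C); rwa [AlgHom.commutes] at this⟩
  have lift : ∀ (C : Type u) [CommRing C] [Algebra A C] (_ : ∃ n, (J ^ n).map (algebraMap A C) = ⊥)
      (h₂ : ∃ c ∈ T, IsUnit (algebraMap A C c)) (g : B →ₐ[A] C),
      ∃! e : C, IsIdempotentElem e ∧ π C e = E _ (hq C) (hu C h₂) ((π C).comp g) := by
    intro C _ _ h₁ h₂ g
    have hnil : ∀ x ∈ RingHom.ker (π C).toRingHom, IsNilpotent x := fun x hx => by
      obtain ⟨n, hn⟩ := ker_mk_nilpotent h₁
      exact ⟨n, Ideal.mem_bot.1 (hn.le (Ideal.pow_mem_pow hx n))⟩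
    obtain ⟨e, he, he'⟩ := exists_isIdempotentElem_eq_of_ker_isNilpotent (π C).toRingHom hnil _
      (Ideal.Quotient.mkₐ_surjective A _ _) (hE _ (hq C) (hu C h₂) ((π C).comp g))
    exact ⟨e, ⟨he, he'⟩, fun e₁ h => eq_of_isNilpotent_sub_of_isIdempotentElem h.1 he
      (hnil _ (by rw [RingHom.mem_ker, map_sub]; exact sub_eq_zero.2 (h.2.trans he'.symm)))⟩
  choose F hF hFu using lift
  beta_reduce at hF hFu
  let Θ : PtMap J T B (A × A) :=
    ⟨fun C _ _ h₁ h₂ g => idemHom (F C h₁ h₂ g) (hF C h₁ h₂ g).1, fun C C' _ _ _ _ G h₁ h₂ h₁' h₂' g => by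
      have key : F C' h₁' h₂' (G.comp g) = G (F C h₁ h₂ g) := by
        symm
        refine hFu C' h₁' h₂' _ _ ⟨(hF C h₁ h₂ g).1.map G, ?_⟩
        let G₀ : C ⧸ J.map (algebraMap A C) →ₐ[A] C' ⧸ J.map (algebraMap A C') :=
          Ideal.Quotient.liftₐ _ ((π C').comp G) fun a ha => by
            have : J.map (algebraMap A C) ≤ RingHom.ker ((π C').comp G) := by
              rw [Ideal.map_le_iff_le_comap]
              intro j hj
              rw [Ideal.mem_comap, RingHom.mem_ker, AlgHom.commutes]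
              exact (hq C').le (Ideal.mem_map_of_mem _ hj)
            exact this ha
        show G₀ (π C (F C h₁ h₂ g)) = _
        rw [(hF C h₁ h₂ g).2, ← hnat _ _ G₀ (hq C) (hu C h₂) (hq C') (hu C' h₂')]
        rfl
      rw [idemHom_comp]
      congr 1⟩
  obtain ⟨N, hN, hun⟩ := match_unique (S := A × A) (Θ := Θ) hi D 1
  obtain ⟨β, hβ⟩ := match_exists (Θ := Θ) hs hi D N (1, 0)
  have hββ : β * β - β ∈ J.map (algebraMap A B) := by
    have := hun (1, 0) _ β (by simpa using hβ.mul hβ) hβ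
    rwa [pow_one, Ideal.smul_top_eq_map] at this
  obtain ⟨e, he, heβ⟩ := Groth.Agent.H9Hens.exists_idem_lift (I := IsLocalRing.maximalIdeal A) β
    (Ideal.map_mono hJ hββ)
  have heJ : Ideal.Quotient.mk (J.map (algebraMap A B)) e = Ideal.Quotient.mk _ β := by
    refine Groth.Agent.H9Hens.idem_eq_of_sub_mem
      (Groth.Agent.H9Hens.map_le_jacobson_of_isIntegral (A := A) (I := IsLocalRing.maximalIdeal A)
        (IsLocalRing.maximalIdeal_le_jacobson ⊥)) (he.map _)
      (by rw [IsIdempotentElem, ← map_mul, Ideal.Quotient.eq]; exact hββ) ?_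
    rw [← map_sub, IsScalarTower.algebraMap_eq A B (B ⧸ J.map (algebraMap A B)), ← Ideal.map_map]
    exact Ideal.mem_map_of_mem _ heβ
  refine ⟨e, he, fun C _ _ h₁ h₂ g => ?_⟩
  have h₁' : ∃ n, (J ^ n).map (algebraMap A C) = ⊥ := ⟨1, by rwa [pow_one]⟩
  have heq : g e = g β := sub_eq_zero.1 (by
    rw [← map_sub]
    have : J.map (algebraMap A B) ≤ RingHom.ker g := by
      rw [Ideal.map_le_iff_le_comap]
      intro a ha
      rw [Ideal.mem_comap, RingHom.mem_ker, g.commutes]
      exact h₁.le (Ideal.mem_map_of_mem _ ha)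
    exact this (Ideal.Quotient.eq.1 heJ))
  rw [heq]
  obtain ⟨c, hc, hcu⟩ := id h₂
  obtain ⟨G, hG⟩ := loc_lift (J := J) (n := 1) (c := c) (by rwa [pow_one]) hcu g
  have h5 : g β = F C h₁' h₂ g := by
    rw [← hG, AlgHom.comp_apply, (hβ.mono hN) c hc, Θ.val_natural hc G h₁' h₂, hG]
    exact idemHom_apply (F C h₁' h₂ g) (hF C h₁' h₂ g).1
  have hπ : Function.Injective (π C) :=
    (injective_iff_map_eq_zero _).2 fun x hx => Ideal.mem_bot.1 (h₁.le (Ideal.Quotient.eq_zero_iff_mem.1 hx))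
  rw [h5]
  exact hπ (((hF C h₁' h₂ g).2).trans (hnat _ _ (π C) h₁ h₂ (hq C) (hu C h₂) g))

end Groth.Agent.H18Pur.Formal
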