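import Mathlib
import Groth.Prelude.Def_FEt
import Groth.Agent.H18Et.FEtRestrictGamma
import Groth.Agent.H18Pur.Formal.Extend
import Groth.Agent.H18Pur.Formal.Idem

/-!
# Restriction to the punctured hypersurface
-/

set_option autoImplicit false
set_option backward.isDefEq.respectTransparency false

universe u

open CategoryTheory CategoryTheory.Limits AlgebraicGeometry
open Groth.Agent.H18Et.FEtRestrict

namespace Groth.Agent.H18Pur.Formal

variable {A : Type u} [CommRing A] [IsNoetherianRing A]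

/-- Clopens descend from the locus modulo `J`. -/
theorem clopensDescend_punctured [HenselianLocalRing A] (hA : (2 : ℕ∞) ≤ LocCoh.depth A A) (J : Ideal A)
    (hJ : J ≤ IsLocalRing.maximalIdeal A) (T : Finset A) (hT : Ideal.span (T : Set A) = IsLocalRing.maximalIdeal A)
    {x : A} (hx : Sat (IsLocalRing.maximalIdeal A) A x) (hs : ProSurj T J) (hi : ProInj T J) :
    ClopensDescend (pullback.fst (FEt.puncturedSpec A).ι (Spec.map (CommRingCat.ofHom (Ideal.Quotient.mk J)))) := by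
  intro V W' hW'
  let ι := (FEt.puncturedSpec A).ι
  let q := Spec.map (CommRingCat.ofHom (Ideal.Quotient.mk J))
  let j : pullback ι q ⟶ Spec (CommRingCat.of A) := pullback.fst ι q ≫ ι
  haveI : IsClosedImmersion q := IsClosedImmersion.spec_of_surjective _ Ideal.Quotient.mk_surjective
  haveI : Mono j := inferInstance
  letI : Algebra A Γ(V.left, ⊤) := (sectionsMap V).hom.toAlgebra
  obtain ⟨hfin, xB, hxB⟩ := sections_finite_sat hA V
  obtain ⟨hpb, het⟩ := sections_etale_away hA V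
  haveI := hfin
  let P := pullback V.hom (pullback.fst ι q)
  let κ : P ⟶ Spec (CommRingCat.of Γ(V.left, ⊤)) := pullback.fst V.hom (pullback.fst ι q) ≫ V.left.toSpecΓ
  have hP : IsPullback κ (pullback.snd V.hom (pullback.fst ι q))
      (Spec.map (CommRingCat.ofHom (algebraMap A Γ(V.left, ⊤)))) j :=
    (IsPullback.of_hasPullback V.hom (pullback.fst ι q)).paste_horiz hpb.flip
  obtain ⟨e', he', hW⟩ := Groth.Agent.H18Et.FEtRestrictGamma.exists_idempotent_of_isClopen (X := P) W' hW'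
  have hz : ∀ (C : Type u) [CommRing C] [Algebra A C], J.map (algebraMap A C) = ⊥ →
      (∃ c ∈ T, IsUnit (algebraMap A C c)) → ∃ w, w ≫ j = Spec.map (CommRingCat.ofHom (algebraMap A C)) := by
    intro C _ _ hC ⟨c, hc, hu⟩
    let z := Spec.map (CommRingCat.ofHom (algebraMap A C))
    have hr : Set.range z ⊆ Set.range ι := by
      rintro _ ⟨p, rfl⟩
      rw [Scheme.Opens.range_ι]
      exact mem_punctured A (mem_of_mem hT hc) fun h => p.isPrime.ne_top (Ideal.eq_top_of_isUnit_mem _ h hu)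
    let z₀ := Spec.map (CommRingCat.ofHom (Ideal.Quotient.lift J (algebraMap A C) fun t ht =>
      (Ideal.mem_bot).1 (hC.le (Ideal.mem_map_of_mem _ ht))))
    have hz₀ : z₀ ≫ q = z := by
      rw [← Spec.map_comp, ← CommRingCat.ofHom_comp]
      rfl
    exact ⟨pullback.lift (IsOpenImmersion.lift ι z hr) z₀ (by rw [IsOpenImmersion.lift_fac, hz₀]),
      by rw [pullback.lift_fst_assoc, IsOpenImmersion.lift_fac]⟩
  have hlift : ∀ (C : Type u) [CommRing C] [Algebra A C] (_ : J.map (algebraMap A C) = ⊥)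
      (_ : ∃ c ∈ T, IsUnit (algebraMap A C c)) (g : Γ(V.left, ⊤) →ₐ[A] C),
      ∃! l : Spec (CommRingCat.of C) ⟶ P, l ≫ κ = Spec.map (CommRingCat.ofHom g.toRingHom) := by
    intro C _ _ h₁ h₂ g
    have hg := (pointsEquiv A Γ(V.left, ⊤) C g).2
    refine ⟨hP.lift _ (hz C h₁ h₂).choose (hg.trans (hz C h₁ h₂).choose_spec.symm), hP.lift_fst _ _ _, fun l hl => ?_⟩
    refine hP.hom_ext (hl.trans (hP.lift_fst _ _ _).symm) ((cancel_mono j).1 ?_)
    rw [hP.lift_snd, (hz C h₁ h₂).choose_spec, Category.assoc, ← hP.w, ← Category.assoc, hl]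
    exact hg
  choose L hL hLu using hlift
  beta_reduce at hL hLu
  let E : ∀ (C : Type u) [CommRing C] [Algebra A C], J.map (algebraMap A C) = ⊥ →
      (∃ c ∈ T, IsUnit (algebraMap A C c)) → (Γ(V.left, ⊤) →ₐ[A] C) → C := fun C _ _ h₁ h₂ g =>
    (Scheme.ΓSpecIso (CommRingCat.of C)).hom ((L C h₁ h₂ g).appTop e')
  obtain ⟨a, ι', b, d, hinj, hex, hsplit⟩ :=
    exists_coords hT hx hxB fun c hc => exists_dualBasis_of_etale c (het c (mem_of_mem hT hc))
  obtain ⟨e, he, hval⟩ := exists_idem hJ hs hi ⟨a, b, ι', d, hinj, hex, hsplit⟩ E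
    (fun C _ _ h₁ h₂ g => by
      show _ = _
      rw [← map_mul, ← map_mul, he'])
    (fun C C' _ _ _ _ G h₁ h₂ h₁' h₂' g => by
      have key : L C' h₁' h₂' (G.comp g) = Spec.map (CommRingCat.ofHom G.toRingHom) ≫ L C h₁ h₂ g := by
        refine (hLu C' h₁' h₂' _ _ ?_).symm
        rw [Category.assoc, hL, ← Spec.map_comp]
        rfl
      show (Scheme.ΓSpecIso (CommRingCat.of C')).hom ((L C' h₁' h₂' (G.comp g)).appTop e') =
        G ((Scheme.ΓSpecIso (CommRingCat.of C)).hom ((L C h₁ h₂ g).appTop e'))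
      rw [key, Scheme.Hom.comp_appTop, ConcreteCategory.comp_apply]
      exact congr($(Scheme.ΓSpecIso_naturality (CommRingCat.ofHom G.toRingHom)) ((L C h₁ h₂ g).appTop e')))
  refine ⟨V.left.basicOpen (e : Γ(V.left, ⊤)), Groth.Agent.H18Et.FEtRestrictGamma.isClopen_basicOpen (X := V.left) e he,
    Set.ext fun (z : P) => ?_⟩
  rw [← hW]
  let K := P.residueField z
  let l := P.fromSpecResidueField z
  let z₀ : Spec (CommRingCat.of K) ⟶ Spec (CommRingCat.of A) := l ≫ pullback.snd V.hom (pullback.fst ι q) ≫ j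
  letI : Algebra A K := (Spec.preimage z₀).hom.toAlgebra
  have hzA : Spec.map (CommRingCat.ofHom (algebraMap A K)) = z₀ := Spec.map_preimage z₀
  have hKJ : J.map (algebraMap A K) = ⊥ := by
    rw [eq_bot_iff, Ideal.map_le_iff_le_comap]
    intro t ht
    rw [Ideal.mem_comap, Ideal.mem_bot]
    have h : z₀ = (l ≫ pullback.snd V.hom (pullback.fst ι q) ≫ pullback.snd ι q) ≫ q := by
      simp only [z₀, j, Category.assoc, pullback.condition]
    rw [← hzA, ← Spec.map_preimage (l ≫ pullback.snd V.hom (pullback.fst ι q) ≫ pullback.snd ι q), ← Spec.map_comp] at h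
    have h' := congr($(Spec.map_injective h) t)
    refine h'.trans ?_
    show (Spec.preimage (l ≫ pullback.snd V.hom (pullback.fst ι q) ≫ pullback.snd ι q)).hom (Ideal.Quotient.mk J t) = 0
    rw [Ideal.Quotient.eq_zero_iff_mem.2 ht, map_zero]
  obtain ⟨c, hcT, hcu⟩ : ∃ c ∈ T, IsUnit (algebraMap A K c) := by
    by_contra! hcon
    let pt : Spec (CommRingCat.of K) := IsLocalRing.closedPoint K
    have hmem : z₀ pt ∈ FEt.puncturedSpec A :=
      ((l ≫ pullback.snd V.hom (pullback.fst ι q) ≫ pullback.fst ι q) pt).2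
    refine hmem (PrimeSpectrum.ext ?_)
    refine ((IsLocalRing.maximalIdeal.isMaximal A).eq_of_le (z₀ pt).isPrime.ne_top ?_).symm
    rw [← hT, Ideal.span_le, ← hzA]
    intro c hc
    show algebraMap A K c ∈ IsLocalRing.maximalIdeal K
    exact hcon c hc
  let g : Γ(V.left, ⊤) →ₐ[A] K := (pointsEquiv A Γ(V.left, ⊤) K).symm ⟨l ≫ κ, by rw [hzA, Category.assoc, hP.w]⟩
  have hl : l = L K hKJ ⟨c, hcT, hcu⟩ g := hLu K hKJ _ g l
    (congrArg Subtype.val ((pointsEquiv A Γ(V.left, ⊤) K).apply_symm_apply ⟨l ≫ κ, _⟩)).symm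
  have hge : g e = (Scheme.ΓSpecIso (CommRingCat.of K)).hom (l.appTop e') := by
    rw [hl]; exact hval K hKJ ⟨c, hcT, hcu⟩ g
  have hκe : κ.appTop ((Scheme.ΓSpecIso Γ(V.left, ⊤)).inv e) = (pullback.fst V.hom (pullback.fst ι q)).appTop e := by
    show (pullback.fst V.hom (pullback.fst ι q) ≫ V.left.toSpecΓ).appTop _ = _
    rw [Scheme.Hom.comp_appTop, ConcreteCategory.comp_apply, Scheme.toSpecΓ_appTop,
      ← ConcreteCategory.comp_apply (Scheme.ΓSpecIso Γ(V.left, ⊤)).inv, Iso.inv_hom_id]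
    rfl
  have hge' : g e = (Scheme.ΓSpecIso (CommRingCat.of K)).hom (l.appTop ((pullback.fst V.hom (pullback.fst ι q)).appTop e)) := by
    rw [← hκe, ← ConcreteCategory.comp_apply κ.appTop, ← Scheme.Hom.comp_appTop]
    conv_rhs => rw [← Spec.map_preimage (l ≫ κ)]
    have h := Scheme.ΓSpecIso_naturality (Spec.preimage (l ≫ κ))
    erw [← ConcreteCategory.comp_apply (Spec.map (Spec.preimage (l ≫ κ))).appTop, h,
      ConcreteCategory.comp_apply, ← ConcreteCategory.comp_apply (Scheme.ΓSpecIso Γ(V.left, ⊤)).inv, Iso.inv_hom_id]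
    rfl
  have hpt : ∀ t : Γ(P, ⊤), z ∈ P.basicOpen t ↔ (Scheme.ΓSpecIso (CommRingCat.of K)).hom (l.appTop t) ≠ 0 := fun t => by
    have h1 : ∀ p, p ∈ l ⁻¹ᵁ P.basicOpen t ↔ z ∈ P.basicOpen t := fun p => by
      show l p ∈ P.basicOpen t ↔ _
      rw [Scheme.fromSpecResidueField_apply]
    rw [← h1 (IsLocalRing.closedPoint K), Scheme.Hom.preimage_basicOpen_top, AlgebraicGeometry.basicOpen_eq_of_affine']
    show _ ∉ IsLocalRing.maximalIdeal K ↔ _
    rw [IsLocalRing.notMem_maximalIdeal, isUnit_iff_ne_zero]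
    exact Iff.rfl
  show (pullback.fst V.hom (pullback.fst ι q)) z ∈ V.left.basicOpen e ↔ z ∈ P.basicOpen e'
  rw [hpt, ← hge, hge', ← hpt, ← Scheme.Hom.preimage_basicOpen_top]
  rfl

/-- Nonempty clopens meet the hypersurface. -/
theorem meetsClopens_punctured [IsLocalRing A] (hA : (2 : ℕ∞) ≤ LocCoh.depth A A) (J : Ideal A)
    (hJ : J ≤ IsLocalRing.maximalIdeal A) (T : Finset A) (hT : Ideal.span (T : Set A) = IsLocalRing.maximalIdeal A)
    (hi : ProInj T J) :
    MeetsClopens (pullback.fst (FEt.puncturedSpec A).ι (Spec.map (CommRingCat.ofHom (Ideal.Quotient.mk J)))) := by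
  intro W hW ⟨w, hw⟩
  -- the punctured spectrum is connected
  obtain ⟨e, he, heW⟩ := Groth.Agent.H18Et.FEtRestrictGamma.exists_idempotent_of_isClopen W hW
  haveI := Groth.Agent.H18Pur.isIso_sections_punctured A hA
  let ρ := (Scheme.ΓSpecIso (CommRingCat.of A)).inv ≫ (FEt.puncturedSpec A).ι.appTop
  obtain ⟨e₀, rfl⟩ := (ConcreteCategory.bijective_of_isIso ρ).2 e
  have he₀ : IsIdempotentElem e₀ := (ConcreteCategory.bijective_of_isIso ρ).1 (by rw [map_mul]; exact he)
  have h1 : e₀ = 1 := by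
    rcases IsLocalRing.isUnit_or_isUnit_one_sub_self e₀ with h | h
    · exact IsIdempotentElem.iff_eq_one_of_isUnit h |>.mp he₀
    · exfalso
      have h0 : e₀ = 0 := h.mul_left_eq_zero.1 (by rw [mul_sub, mul_one, he₀.eq, sub_self])
      rw [h0, map_zero, Scheme.basicOpen_zero] at heW
      exact heW.ge hw
  rw [h1, map_one, Scheme.basicOpen_of_isUnit _ isUnit_one] at heW
  have hWuniv : W = Set.univ := heW.symm
  rw [hWuniv, Set.univ_inter]
  -- some prime other than the maximal ideal contains `J`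
  by_contra hne
  obtain ⟨N, hN⟩ := hi 1
  have hrad : ∀ c, ∃ L : ℕ, c ∈ T → c ^ L ∈ J ^ N := fun c => by
    by_cases hc : c ∈ T
    · suffices c ∈ (J ^ N).radical from (Ideal.mem_radical_iff.1 this).imp fun L hL _ => hL
      rw [Ideal.radical_eq_sInf, Submodule.mem_sInf]
      rintro p ⟨hp, hpp⟩
      have hJp : J ≤ p := fun t ht => hpp.mem_of_pow_mem N (hp (Ideal.pow_mem_pow ht N))
      by_contra hcp
      refine hne ?_
      rw [Scheme.Pullback.range_fst]
      exact ⟨⟨⟨p, hpp⟩, mem_punctured A (mem_of_mem hT hc) hcp⟩,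
        (range_comap_of_surjective (f := Ideal.Quotient.mk J) _ Ideal.Quotient.mk_surjective).ge
          (show (RingHom.ker (Ideal.Quotient.mk J) : Set A) ⊆ p from Ideal.mk_ker.le.trans hJp)⟩
    · exact ⟨0, fun h => absurd h hc⟩
  choose L hL using hrad
  have h01 : (1 : A) ∈ J ^ 1 := hN (T.sum L) 1 fun c hc => by
    rw [mul_one]
    obtain ⟨d, hd⟩ := Nat.exists_eq_add_of_le (Finset.single_le_sum (fun i _ => Nat.zero_le (L i)) hc)
    rw [hd, pow_add]
    exact Ideal.mul_mem_right _ _ (hL c hc)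
  rw [pow_one] at h01
  exact (IsLocalRing.maximalIdeal.isMaximal A).ne_top ((Ideal.eq_top_iff_one _).2 (hJ h01))

end Groth.Agent.H18Pur.Formal
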